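import Mathlib
import Cfsg.Agent.Lib.Forms.Witt

/-!
Special isometries of a non-degenerate Hermitian form over a field with surjective norm: unitary
transvections, Eichler-type root elements, transitivity on isotropic vectors and hyperbolic pairs, and
generation of the determinant-one isometries by transvections.
-/

set_option autoImplicit false
set_option linter.unusedSectionVars false

namespace CfsgLib.Unitary

open CfsgLib.Forms

variable {F V : Type*} [Field F] [AddCommGroup V] [Module F V] [FiniteDimensional F V]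
  {σ : F →+* F} {B : V →ₛₗ[σ] V →ₗ[F] F}

/-- A non-degenerate Hermitian form whose norm map is onto the fixed field. -/
structure HForm (B : V →ₛₗ[σ] V →ₗ[F] F) : Prop where
  ne : σ ≠ RingHom.id F
  invol : ∀ a, σ (σ a) = a
  symm : ∀ u v, σ (B u v) = B v u
  nondeg : B.SeparatingLeft
  norm : ∀ b, σ b = b → ∃ x, σ x * x = b

/-- `g` is `x ↦ x + c B(v, x) v`. -/
def IsTv (B : V →ₛₗ[σ] V →ₗ[F] F) (g : V ≃ₗ[F] V) (v : V) (c : F) : Prop :=
  ∀ x, g x = x + (c * B v x) • v

/-- The unitary transvections. -/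
def tSet (B : V →ₛₗ[σ] V →ₗ[F] F) : Set (V ≃ₗ[F] V) :=
  {g | ∃ (v : V) (c : F), B v v = 0 ∧ c + σ c = 0 ∧ IsTv B g v c}

/-- The group generated by the unitary transvections. -/
def tGroup (B : V →ₛₗ[σ] V →ₗ[F] F) : Subgroup (V ≃ₗ[F] V) := Subgroup.closure (tSet B)

/-- `g` is `y ↦ y + B(u, y) x - B(x, y) u + a B(u, y) u`. -/
def IsQ (B : V →ₛₗ[σ] V →ₗ[F] F) (g : V ≃ₗ[F] V) (u x : V) (a : F) : Prop :=
  ∀ y, g y = y + B u y • x - B x y • u + (a * B u y) • u

/-- The isometries of determinant one. -/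
def IsSIsom (B : V →ₛₗ[σ] V →ₗ[F] F) (g : V ≃ₗ[F] V) : Prop :=
  (∀ x y, B (g x) (g y) = B x y) ∧ LinearMap.det (g : V →ₗ[F] V) = 1

theorem isSIsom_one : IsSIsom B (1 : V ≃ₗ[F] V) :=
  ⟨fun _ _ => rfl, by simp [LinearEquiv.coe_one]⟩

theorem isSIsom_mul {g h : V ≃ₗ[F] V} (hg : IsSIsom B g) (hh : IsSIsom B h) : IsSIsom B (g * h) :=
  ⟨fun x y => by simp [LinearEquiv.mul_apply, hg.1, hh.1], by
    rw [LinearEquiv.coe_toLinearMap_mul, map_mul, hg.2, hh.2, mul_one]⟩

theorem isom_inv {g : V ≃ₗ[F] V} (hg : ∀ x y, B (g x) (g y) = B x y) (x y : V) :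
    B (g⁻¹ x) (g⁻¹ y) = B x y := by
  rw [← hg (g⁻¹ x) (g⁻¹ y)]
  simp [← LinearEquiv.mul_apply]

theorem isSIsom_inv {g : V ≃ₗ[F] V} (hg : IsSIsom B g) : IsSIsom B g⁻¹ := by
  refine ⟨isom_inv hg.1, ?_⟩
  have h1 : ((g⁻¹ : V ≃ₗ[F] V) : V →ₗ[F] V) * (g : V →ₗ[F] V) = 1 :=
    LinearMap.ext fun x => g.symm_apply_apply x
  have h2 := congrArg (LinearMap.det (A := F) (M := V)) h1
  rwa [map_mul, hg.2, mul_one, map_one] at h2

/-- `x ↦ x + f(x) v` with `f(v) = 0` has determinant one. -/
theorem det_transvection {f : Module.Dual F V} {v : V} (h : f v = 0) :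
    LinearMap.det ((LinearEquiv.transvection h : V ≃ₗ[F] V) : V →ₗ[F] V) = 1 := by
  have : ((LinearEquiv.transvection h : V ≃ₗ[F] V) : V →ₗ[F] V) = LinearMap.transvection f v := rfl
  rw [this, LinearMap.transvection.det, h, add_zero]

theorem exists_isTv (v : V) (c : F) (hv : B v v = 0) :
    ∃ g : V ≃ₗ[F] V, IsTv B g v c ∧ LinearMap.det (g : V →ₗ[F] V) = 1 := by
  have h : (c • B v) v = 0 := by simp [hv]
  exact ⟨LinearEquiv.transvection h, fun x => by simp [LinearMap.transvection.apply],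
    det_transvection h⟩

variable (hB : HForm B)
include hB

theorem herm_zero {x y : V} (h : B x y = 0) : B y x = 0 := by rw [← hB.symm, h, map_zero]

theorem isTv_isom {g : V ≃ₗ[F] V} {v : V} {c : F} (hg : IsTv B g v c) (hv : B v v = 0)
    (hc : c + σ c = 0) (x y : V) : B (g x) (g y) = B x y := by
  simp only [hg x, hg y, map_add, map_smulₛₗ, LinearMap.add_apply, LinearMap.smul_apply, smul_eq_mul,
    RingHom.id_apply, map_mul, hB.symm, hv]
  linear_combination (B x v * B v y) * hc

theorem tSet_isSIsom {g : V ≃ₗ[F] V} (hg : g ∈ tSet B) : IsSIsom B g := by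
  obtain ⟨v, c, hv, hc, hg⟩ := hg
  obtain ⟨t, ht, htd⟩ := exists_isTv v c hv
  have : g = t := LinearEquiv.ext fun x => by rw [hg, ht]
  exact ⟨isTv_isom hB hg hv hc, this ▸ htd⟩

theorem tGroup_isSIsom {g : V ≃ₗ[F] V} (hg : g ∈ tGroup B) : IsSIsom B g := by
  induction hg using Subgroup.closure_induction with
  | mem x hx => exact tSet_isSIsom hB hx
  | one => exact isSIsom_one
  | mul x y _ _ hx hy => exact isSIsom_mul hx hy
  | inv x _ hx => exact isSIsom_inv hx

theorem conj_mem_tGroup {g t : V ≃ₗ[F] V} (hg : ∀ x y, B (g x) (g y) = B x y) (ht : t ∈ tGroup B) :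
    g * t * g⁻¹ ∈ tGroup B := by
  induction ht using Subgroup.closure_induction with
  | mem x hx =>
    obtain ⟨v, c, hv, hc, hx⟩ := hx
    refine Subgroup.subset_closure ⟨g v, c, by rw [hg, hv], hc, fun y => ?_⟩
    have : B v (g⁻¹ y) = B (g v) y := by
      conv_rhs => rw [show y = g (g⁻¹ y) by simp [← LinearEquiv.mul_apply], hg]
    rw [LinearEquiv.mul_apply, LinearEquiv.mul_apply, hx (g⁻¹ y), this, map_add, map_smul]
    congr 1
    exact g.apply_symm_apply y
  | one => simp
  | mul x y _ _ hx hy =>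
    rw [show g * (x * y) * g⁻¹ = g * x * g⁻¹ * (g * y * g⁻¹) by group]
    exact mul_mem hx hy
  | inv x _ hx =>
    rw [show g * x⁻¹ * g⁻¹ = (g * x * g⁻¹)⁻¹ by group]
    exact inv_mem hx

theorem exists_skew : ∃ s : F, s ≠ 0 ∧ s + σ s = 0 := by
  obtain ⟨a, ha⟩ : ∃ a, σ a ≠ a := by
    by_contra h; push Not at h; exact hB.ne (RingHom.ext h)
  exact ⟨a - σ a, sub_ne_zero.2 (Ne.symm ha), by rw [map_sub, hB.invol]; ring⟩

omit hB in
theorem isQ_ext {g h : V ≃ₗ[F] V} {u x : V} {a : F} (hg : IsQ B g u x a) (hh : IsQ B h u x a) :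
    g = h :=
  LinearEquiv.ext fun y => by rw [hg y, hh y]

/-- The root element exists, preserves the form and has determinant one. -/
theorem exists_isQ (u x : V) (a : F) (hu : B u u = 0) (hx : B u x = 0) (ha : a + σ a = -B x x) :
    ∃ g : V ≃ₗ[F] V, IsQ B g u x a ∧ IsSIsom B g := by
  have hxu : B x u = 0 := herm_zero hB hx
  have h1 : (B u) (x + a • u) = 0 := by simp [hu, hx]
  have h2 : (-B x) u = 0 := by simp [hxu]
  let g : V ≃ₗ[F] V := LinearEquiv.transvection h1 * LinearEquiv.transvection h2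
  have hQ : IsQ B g u x a := fun y => by
    simp only [g, LinearEquiv.mul_apply, LinearEquiv.transvection.apply, LinearMap.neg_apply, map_add,
      map_smul, map_neg, hu, smul_eq_mul, mul_zero, neg_zero, add_zero, neg_smul]
    module
  refine ⟨g, hQ, fun y z => ?_, ?_⟩
  · simp only [hQ y, hQ z, map_add, map_sub, map_smulₛₗ, LinearMap.add_apply, LinearMap.sub_apply,
      LinearMap.smul_apply, smul_eq_mul, RingHom.id_apply, map_mul, hB.symm, hu, hx, hxu]
    linear_combination (B y u * B u z) * ha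
  · simp only [g, LinearEquiv.coe_toLinearMap_mul, map_mul, det_transvection, mul_one]

/-- Composition law of the root elements. -/
theorem isQ_mul {g h : V ≃ₗ[F] V} {u x x' : V} {a a' : F} (hu : B u u = 0) (hx : B u x = 0)
    (hx' : B u x' = 0) (hg : IsQ B g u x a) (hh : IsQ B h u x' a') :
    IsQ B (g * h) u (x + x') (a + a' - B x x') := by
  intro y
  simp only [LinearEquiv.mul_apply, hh y, hg _, map_add, map_sub, map_smul, LinearMap.add_apply,
    smul_eq_mul, hu, hx', herm_zero hB hx]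
  module

theorem isQ_conj {g d : V ≃ₗ[F] V} {u x : V} {a μ : F} (hd : ∀ y z, B (d y) (d z) = B y z)
    (hdu : d u = μ • u) (hg : IsQ B g u x a) :
    IsQ B (d * g * d⁻¹) u (σ μ • d x) (σ μ * μ * a) := by
  intro y
  have hy : d (d⁻¹ y) = y := by simp [← LinearEquiv.mul_apply]
  have h1 : B u (d⁻¹ y) = σ μ * B u y := by
    rw [← hd u, hy, hdu]; simp
  have h2 : B x (d⁻¹ y) = B (d x) y := by rw [← hd x, hy]
  simp only [LinearEquiv.mul_apply, hg _, map_add, map_sub, map_smul, hy, hdu, h1, h2, map_smulₛₗ,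
    LinearMap.smul_apply, hB.invol, RingHom.id_apply, smul_eq_mul]
  module

omit hB in
theorem isTv_isQ {g : V ≃ₗ[F] V} {u : V} {c : F} : IsQ B g u 0 c ↔ IsTv B g u c := by
  constructor <;> intro h y <;> simpa using h y

/-- A vector orthogonal to a family and outside its span gives an anisotropic vector orthogonal to the
family. -/
theorem exists_aniso_perp {ι : Type*} [Finite ι] (y : ι → V) (z : V) (hzy : ∀ i, B (y i) z = 0)
    (hz : z ∉ Submodule.span F (Set.range y)) : ∃ a, (∀ i, B (y i) a = 0) ∧ B a a ≠ 0 := by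
  by_cases hzz : B z z = 0
  · obtain ⟨p, hp, hzp⟩ := exists_orth_pair_one (fun a => ⟨σ a, hB.invol a⟩) B hB.nondeg y z hz
    by_cases hpp : B p p = 0
    · obtain ⟨e, he⟩ := exists_trace_ne_zero hB.ne
      refine ⟨z + e • p, fun i => by simp [hzy i, hp i], ?_⟩
      have hpz : B p z = 1 := by rw [← hB.symm, hzp, map_one]
      simpa [hzz, hpp, hzp, hpz, add_comm] using he
    · exact ⟨p, hp, hpp⟩
  · exact ⟨z, hzy, hzz⟩

theorem exists_partner {u : V} (hu : u ≠ 0) (huu : B u u = 0) : ∃ v, B v v = 0 ∧ B u v = 1 := by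
  obtain ⟨p, -, hp⟩ := exists_orth_pair_one (fun a => ⟨σ a, hB.invol a⟩) B hB.nondeg
    (Fin.elim0 : Fin 0 → V) u (by
      rw [Set.range_eq_empty, Submodule.span_empty, Submodule.mem_bot]
      exact hu)
  obtain ⟨d, hd⟩ := exists_trace_eq hB.ne hB.invol (-B p p) (by rw [map_neg, hB.symm])
  refine ⟨p + d • u, ?_, by simp [hp, huu]⟩
  have hpu : B p u = 1 := by rw [← hB.symm, hp, map_one]
  simp only [map_add, map_smulₛₗ, LinearMap.add_apply, LinearMap.smul_apply, smul_eq_mul, hp, hpu, huu,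
    RingHom.id_apply]
  linear_combination hd

omit hB in
/-- A hyperbolic pair is linearly independent. -/
theorem pair_coord {u v : V} (hu : B u u = 0) (hv : B v v = 0) (huv : B u v = 1) (hvu : B v u = 1)
    {w : V} (hw : w ∈ Submodule.span F (Set.range ![u, v])) : w = B v w • u + B u w • v := by
  rw [Matrix.range_cons, Matrix.range_cons, Matrix.range_empty, Set.union_empty,
    Set.singleton_union, Submodule.mem_span_pair] at hw
  obtain ⟨a, b, rfl⟩ := hw
  simp [hu, hv, huv, hvu]

theorem exists_aniso_perp_pair (h3 : 3 ≤ Module.finrank F V) {u v : V} (hu : B u u = 0)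
    (hv : B v v = 0) (huv : B u v = 1) : ∃ a, B u a = 0 ∧ B v a = 0 ∧ B a a ≠ 0 := by
  have hvu : B v u = 1 := by rw [← hB.symm, huv, map_one]
  obtain ⟨p, hp⟩ : ∃ p, p ∉ Submodule.span F (Set.range ![u, v]) := by
    by_contra h
    push Not at h
    have htop : Submodule.span F (Set.range ![u, v]) = ⊤ := Submodule.eq_top_iff'.mpr h
    have := finrank_range_le_card (R := F) ![u, v]
    rw [Set.finrank, htop, finrank_top] at this
    simp at this
    omega
  let z := p - B v p • u - B u p • v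
  have hz : z ∉ Submodule.span F (Set.range ![u, v]) := fun h => hp <| by
    have h1 : u ∈ Submodule.span F (Set.range ![u, v]) := Submodule.subset_span ⟨0, rfl⟩
    have h2 : v ∈ Submodule.span F (Set.range ![u, v]) := Submodule.subset_span ⟨1, rfl⟩
    have : p = z + B v p • u + B u p • v := by simp only [z]; abel
    rw [this]
    exact add_mem (add_mem h (Submodule.smul_mem _ _ h1)) (Submodule.smul_mem _ _ h2)
  obtain ⟨a, ha, haa⟩ := exists_aniso_perp hB ![u, v] z
    (fun i => by fin_cases i <;> simp [z, hu, hv, huv, hvu]) hz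
  exact ⟨a, by simpa using ha 0, by simpa using ha 1, haa⟩

theorem tv_mem {v : V} {c : F} (hv : B v v = 0) (hc : c + σ c = 0) :
    ∃ g ∈ tGroup B, IsTv B g v c := by
  obtain ⟨g, hg, -⟩ := exists_isTv v c hv
  exact ⟨g, Subgroup.subset_closure ⟨v, c, hv, hc, hg⟩, hg⟩

theorem skew_inv {s : F} (hs : s + σ s = 0) : s⁻¹ + σ s⁻¹ = 0 := by
  rw [map_inv₀, eq_neg_of_add_eq_zero_right hs, inv_neg, add_neg_cancel]

/-- Adjacent isotropic vectors are in one orbit. -/
theorem step_adj {u v : V} (hu : B u u = 0) (hv : B v v = 0) (h0 : B u v ≠ 0)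
    (hs : B u v + σ (B u v) = 0) : ∃ g ∈ tGroup B, g u = v := by
  have hvu : B v u = σ (B u v) := (hB.symm u v).symm
  have hw : B (u - v) (u - v) = 0 := by
    simp only [map_sub, LinearMap.sub_apply, hu, hv, hvu]
    linear_combination -hs
  obtain ⟨g, hg, hgv⟩ := tv_mem hB (v := u - v) (c := -(B u v)⁻¹) hw (by
    rw [map_neg]; linear_combination -(skew_inv hB hs))
  refine ⟨g, hg, ?_⟩
  rw [hgv u]
  have : B (u - v) u = B u v := by
    simp only [map_sub, LinearMap.sub_apply, hu, hvu]
    linear_combination -hs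
  rw [this, neg_mul, inv_mul_cancel₀ h0, neg_smul, one_smul]
  abel

/-- Non-orthogonal isotropic vectors are in one orbit. -/
theorem step_conn (h3 : 3 ≤ Module.finrank F V) {u v : V} (hu : B u u = 0) (hv : B v v = 0)
    (h0 : B u v ≠ 0) : ∃ g ∈ tGroup B, g u = v := by
  obtain ⟨s, hs0, hs⟩ := exists_skew hB
  let v' := (B u v)⁻¹ • v
  have hv' : B v' v' = 0 := by simp [v', hv]
  have huv' : B u v' = 1 := by simp [v', h0]
  obtain ⟨a, hua, hva, haa⟩ := exists_aniso_perp_pair hB h3 hu hv' huv'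
  have hva' : B v a = 0 := by simpa [v', h0] using hva
  have hau := herm_zero hB hua
  have hav := herm_zero hB hva'
  have hvu : B v u = σ (B u v) := (hB.symm u v).symm
  have hb : σ (B u v) ≠ 0 := (map_ne_zero σ).mpr h0
  let α := s / σ (B u v)
  let β := s / B u v
  let K := B (α • u + β • v) (α • u + β • v)
  have hK : σ K = K := hB.symm _ _
  obtain ⟨t, ht⟩ := hB.norm (-K / B a a) (by rw [map_div₀, map_neg, hK, hB.symm])
  let x := α • u + β • v + t • a
  have hux : B u x = s := by simp [x, hu, hua, β, h0]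
  have hvx : B v x = s := by simp [x, hv, hva', hvu, α, hb]
  have hxv : B x v = σ s := by rw [← hB.symm, hvx]
  have hxx : B x x = 0 := by
    have e : B x x = K + σ t * t * B a a := by
      simp only [x, K, map_add, map_smulₛₗ, LinearMap.add_apply, LinearMap.smul_apply, hua, hva', hau,
        hav, smul_eq_mul, RingHom.id_apply]
      ring
    rw [e, ht]
    field_simp
    ring
  obtain ⟨g₁, hg₁, e₁⟩ := step_adj hB hu hxx (by rw [hux]; exact hs0) (by rw [hux]; exact hs)
  obtain ⟨g₂, hg₂, e₂⟩ := step_adj hB hxx hv (by rw [hxv]; exact (map_ne_zero σ).mpr hs0)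
    (by rw [hxv, hB.invol, add_comm]; exact hs)
  exact ⟨g₂ * g₁, mul_mem hg₂ hg₁, by rw [LinearEquiv.mul_apply, e₁, e₂]⟩

/-- The transvection group is transitive on non-zero isotropic vectors. -/
theorem transitive_isotropic (h3 : 3 ≤ Module.finrank F V) {u v : V} (hu0 : u ≠ 0) (hv0 : v ≠ 0)
    (hu : B u u = 0) (hv : B v v = 0) : ∃ g ∈ tGroup B, g u = v := by
  by_cases h0 : B u v = 0
  · suffices h : ∃ x, B x x = 0 ∧ B u x ≠ 0 ∧ B v x ≠ 0 by
      obtain ⟨x, hx, hux, hvx⟩ := h
      obtain ⟨g₁, hg₁, e₁⟩ := step_conn hB h3 hu hx hux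
      obtain ⟨g₂, hg₂, e₂⟩ := step_conn hB h3 hx hv (fun h => hvx (herm_zero hB h))
      exact ⟨g₂ * g₁, mul_mem hg₂ hg₁, by rw [LinearEquiv.mul_apply, e₁, e₂]⟩
    have hvu := herm_zero hB h0
    by_cases hl : v ∈ Submodule.span F (Set.range ![u])
    · simp only [Matrix.range_cons, Matrix.range_empty, Set.union_empty,
        Submodule.mem_span_singleton] at hl
      obtain ⟨k, rfl⟩ := hl
      obtain ⟨x, hx, hux⟩ := exists_partner hB hu0 hu
      exact ⟨x, hx, by simp [hux], by simpa [hux] using (smul_ne_zero_iff.mp hv0).1⟩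
    · obtain ⟨p, hp, hvp⟩ := exists_orth_pair_one (fun a => ⟨σ a, hB.invol a⟩) B hB.nondeg ![u] v hl
      have hup : B u p = 0 := by simpa using hp 0
      obtain ⟨p', -, hup'⟩ := exists_partner hB hu0 hu
      let x₀ := p' + (1 - B v p') • p
      have h1 : B u x₀ = 1 := by simp [x₀, hup, hup']
      have h2 : B v x₀ = 1 := by simp [x₀, hvp]
      have h1' : B x₀ u = 1 := by rw [← hB.symm, h1, map_one]
      obtain ⟨d, hd⟩ := exists_trace_eq hB.ne hB.invol (-B x₀ x₀) (by rw [map_neg, hB.symm])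
      refine ⟨x₀ + d • u, ?_, by simp [h1, hu], by simp [h2, hvu]⟩
      simp only [map_add, map_smulₛₗ, LinearMap.add_apply, LinearMap.smul_apply, smul_eq_mul, h1, h1',
        hu, RingHom.id_apply]
      linear_combination hd
  · exact step_conn hB h3 hu hv h0

/-- The torus of a hyperbolic pair over the fixed field. -/
theorem torus_mem {u v : V} (hu : B u u = 0) (hv : B v v = 0) (huv : B u v = 1) {l : F}
    (hl : σ l = l) (hl0 : l ≠ 0) :
    ∃ d ∈ tGroup B, d u = l • u ∧ d v = l⁻¹ • v ∧ ∀ w, B u w = 0 → B v w = 0 → d w = w := by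
  have hvu : B v u = 1 := by rw [← hB.symm, huv, map_one]
  have weyl : ∀ s : F, s ≠ 0 → s + σ s = 0 → ∃ g ∈ tGroup B, g u = (-s⁻¹) • v ∧ g v = s • u ∧
      ∀ w, B u w = 0 → B v w = 0 → g w = w := by
    intro s hs0 hs
    obtain ⟨a, ha, hav⟩ := tv_mem hB (v := u) (c := s) hu hs
    obtain ⟨b, hb, hbv⟩ := tv_mem hB (v := v) (c := -s⁻¹) hv (by
      rw [map_neg]; linear_combination -(skew_inv hB hs))
    refine ⟨a * b * a, mul_mem (mul_mem ha hb) ha, ?_, ?_, fun w hw hw' => ?_⟩
    · simp only [LinearEquiv.mul_apply, hav _, hbv _, map_add, map_smul, hu, hv, huv, hvu, smul_eq_mul]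
      match_scalars <;> field_simp <;> ring
    · simp only [LinearEquiv.mul_apply, hav _, hbv _, map_add, map_smul, hu, hv, huv, hvu, smul_eq_mul]
      match_scalars <;> field_simp <;> ring
    · simp [LinearEquiv.mul_apply, hav _, hbv _, hw, hw']
  obtain ⟨r, hr0, hr⟩ := exists_skew hB
  obtain ⟨g₁, hg₁, a₁, b₁, c₁⟩ := weyl r hr0 hr
  obtain ⟨g₂, hg₂, a₂, b₂, c₂⟩ := weyl (-l * r) (by simp [hl0, hr0]) (by
    rw [map_mul, map_neg, hl]; linear_combination (-l) * hr)
  refine ⟨g₂ * g₁, mul_mem hg₂ hg₁, ?_, ?_, fun w hw hw' => ?_⟩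
  · rw [LinearEquiv.mul_apply, a₁, map_smul, b₂, smul_smul]
    congr 1; field_simp
  · rw [LinearEquiv.mul_apply, b₁, map_smul, a₂, smul_smul]
    congr 1; field_simp
  · rw [LinearEquiv.mul_apply, c₁ w hw hw', c₂ w hw hw']

/-- Root elements along `x` isotropic. -/
theorem q_mem_isotropic {u x : V} (hu : B u u = 0) (hx : B u x = 0) (hxx : B x x = 0) :
    ∃ a, ∃ g ∈ tGroup B, IsQ B g u x a ∧ a + σ a = -B x x := by
  obtain ⟨s, hs0, hs⟩ := exists_skew hB
  have hxu := herm_zero hB hx
  have hw : B (x + σ s⁻¹ • u) (x + σ s⁻¹ • u) = 0 := by simp [hu, hx, hxu, hxx]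
  obtain ⟨g₁, hg₁, e₁⟩ := tv_mem hB (v := x + σ s⁻¹ • u) (c := s) hw hs
  obtain ⟨g₂, hg₂, e₂⟩ := tv_mem hB (v := x) (c := -s) hxx (by rw [map_neg]; linear_combination -hs)
  have hσs : σ s = -s := eq_neg_of_add_eq_zero_right hs
  refine ⟨σ s⁻¹, g₁ * g₂, mul_mem hg₁ hg₂, fun y => ?_, ?_⟩
  · simp only [LinearEquiv.mul_apply, e₁ _, e₂ _, map_add, map_smulₛₗ, LinearMap.add_apply,
      LinearMap.smul_apply, hB.invol, hx, hxx, smul_eq_mul, RingHom.id_apply, map_inv₀, hσs, inv_neg, map_neg]
    match_scalars <;> field_simp <;> ring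
  · rw [hxx, neg_zero, hB.invol, add_comm]
    exact skew_inv hB hs

/-- Every root element lies in the transvection group. -/
theorem q_mem (h3 : 3 ≤ Module.finrank F V)
    (hq : 4 ≤ Module.finrank F V ∨ ∃ l : F, σ l = l ∧ l ≠ 0 ∧ l ≠ 1) {u x : V} {a : F} (hu0 : u ≠ 0)
    (hu : B u u = 0) (hx : B u x = 0) (ha : a + σ a = -B x x) :
    ∃ g ∈ tGroup B, IsQ B g u x a := by
  obtain ⟨v, hv, huv⟩ := exists_partner hB hu0 hu
  have hvu : B v u = 1 := by rw [← hB.symm, huv, map_one]
  -- it is enough to reach `x` up to a multiple of `u`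
  suffices h : ∀ z, B u z = 0 → B v z = 0 → ∃ b, ∃ g ∈ tGroup B, IsQ B g u z b ∧ b + σ b = -B z z by
    let k := B v x
    let z := x - k • u
    have hxu := herm_zero hB hx
    obtain ⟨b, g, hg, hgq, hb⟩ := h z (by simp [z, hx, hu]) (by simp [z, k, hvu])
    have hzz : B z z = B x x := by simp [z, hx, hxu, hu]
    have hgq' : IsQ B g u x (b - k + σ k) := fun y => by
      simp only [hgq y, z, map_sub, map_smulₛₗ, LinearMap.sub_apply, LinearMap.smul_apply, smul_eq_mul]
      module
    obtain ⟨t, ht, htv⟩ := tv_mem hB (v := u) (c := a - (b - k + σ k)) hu (by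
      simp only [map_sub, map_add, hB.invol]
      linear_combination ha - hb + hzz)
    refine ⟨t * g, mul_mem ht hg, ?_⟩
    have := isQ_mul hB hu (by simp) hx (isTv_isQ.mpr htv) hgq'
    simpa using this
  intro z huz hvz
  rcases hq with h4 | ⟨l, hl, hl0, hl1⟩
  · by_cases hzz : B z z = 0
    · exact q_mem_isotropic hB hu huz hzz
    · -- split `z` into two isotropic vectors
      obtain ⟨p, hp⟩ : ∃ p, p ∉ Submodule.span F (Set.range ![u, v, z]) := by
        by_contra h
        push Not at h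
        have htop : Submodule.span F (Set.range ![u, v, z]) = ⊤ := Submodule.eq_top_iff'.mpr h
        have := finrank_range_le_card (R := F) ![u, v, z]
        rw [Set.finrank, htop, finrank_top] at this
        simp at this
        omega
      let p' := p - B v p • u - B u p • v - (B z p / B z z) • z
      have hp' : p' ∉ Submodule.span F (Set.range ![u, v, z]) := fun h => hp <| by
        have h1 : u ∈ Submodule.span F (Set.range ![u, v, z]) := Submodule.subset_span ⟨0, rfl⟩
        have h2 : v ∈ Submodule.span F (Set.range ![u, v, z]) := Submodule.subset_span ⟨1, rfl⟩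
        have h3 : z ∈ Submodule.span F (Set.range ![u, v, z]) := Submodule.subset_span ⟨2, rfl⟩
        have : p = p' + B v p • u + B u p • v + (B z p / B z z) • z := by simp only [p']; abel
        rw [this]
        exact add_mem (add_mem (add_mem h (Submodule.smul_mem _ _ h1)) (Submodule.smul_mem _ _ h2))
          (Submodule.smul_mem _ _ h3)
      have hzu := herm_zero hB huz
      have hzv := herm_zero hB hvz
      obtain ⟨c, hc, hcc⟩ := exists_aniso_perp hB ![u, v, z] p'
        (fun i => by fin_cases i <;> simp [p', hu, hv, huv, hvu, huz, hvz, hzu, hzv, hzz]) hp'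
      have huc : B u c = 0 := by simpa using hc 0
      have hzc : B z c = 0 := by simpa using hc 2
      have hcz := herm_zero hB hzc
      obtain ⟨t, ht⟩ := hB.norm (-B z z / B c c) (by rw [map_div₀, map_neg, hB.symm, hB.symm])
      let w := z + t • c
      have hww : B w w = 0 := by
        have e : B w w = B z z + σ t * t * B c c := by
          simp only [w, map_add, map_smulₛₗ, LinearMap.add_apply, LinearMap.smul_apply, hzc, hcz,
            smul_eq_mul, RingHom.id_apply]
          ring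
        rw [e, ht]; field_simp; ring
      have hzw : B z w = B z z := by simp [w, hzc]
      have hwz : B w z = B z z := by simp [w, hcz]
      obtain ⟨k, hk⟩ := exists_trace_eq hB.ne hB.invol 1 (map_one σ)
      have huw : B u w = 0 := by simp [w, huz, huc]
      obtain ⟨b₁, g₁, hg₁, e₁, hb₁⟩ := q_mem_isotropic hB hu (x := z - k • w) (by simp [huz, huw]) (by
        simp only [map_sub, map_smulₛₗ, LinearMap.sub_apply, LinearMap.smul_apply, smul_eq_mul,
          RingHom.id_apply, hzw, hwz, hww]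
        linear_combination (-B z z) * hk)
      obtain ⟨b₂, g₂, hg₂, e₂, hb₂⟩ := q_mem_isotropic hB hu (x := k • w) (by simp [huw]) (by simp [hww])
      refine ⟨b₁ + b₂ - B (z - k • w) (k • w), g₁ * g₂, mul_mem hg₁ hg₂, ?_, ?_⟩
      · have := isQ_mul hB hu (by simp [huz, huw]) (by simp [huw]) e₁ e₂
        rwa [sub_add_cancel] at this
      · simp only [map_sub, map_smulₛₗ, LinearMap.sub_apply, LinearMap.smul_apply, smul_eq_mul,
          RingHom.id_apply, hzw, hwz, hww, map_add, map_mul, hB.invol, hB.symm, map_zero] at hb₁ hb₂ ⊢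
        linear_combination hb₁ + hb₂
  · obtain ⟨d, hd, hdu, hdv, hdw⟩ := torus_mem hB hu hv huv hl hl0
    have hl1' : l - 1 ≠ 0 := sub_ne_zero.mpr hl1
    let z' := (l - 1)⁻¹ • z
    obtain ⟨b', hb'⟩ := exists_trace_eq hB.ne hB.invol (-B z' z') (by rw [map_neg, hB.symm])
    have huz' : B u z' = 0 := by simp [z', huz]
    obtain ⟨g', hg', hg'i⟩ := exists_isQ hB u z' b' hu huz' hb'
    have hdz : d z' = z' := hdw z' huz' (by simp [z', hvz])
    have hdi := (tGroup_isSIsom hB hd).1
    let e := l * l * b' - b' + B z z'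
    have hzz' : z + z' = l • z' := by
      simp only [z', smul_smul]
      match_scalars
      field_simp
      ring
    have hcommute : σ (B z z') = B z z' := by
      simp only [z', map_smul, smul_eq_mul, map_mul, hB.symm, map_inv₀, map_sub, hl, map_one]
    have he : e + σ e = -B z z := by
      have h1 : B z' z' * ((l - 1) * (l - 1)) = B z z := by
        simp only [z', map_smulₛₗ, LinearMap.smul_apply, smul_eq_mul, RingHom.id_apply, map_inv₀, map_sub,
          hl, map_one]
        field_simp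
      have h2 : B z z' * (l - 1) = B z z := by
        simp only [z', map_smul, smul_eq_mul]; field_simp
      simp only [e, map_add, map_sub, map_mul, hl, hcommute]
      have h3 : B z z' = B z' z' * (l - 1) := by
        apply mul_right_cancel₀ hl1'
        linear_combination h2 - h1
      linear_combination (l * l - 1) * hb' - h1 + 2 * h3
    obtain ⟨q, hq, -⟩ := exists_isQ hB u z e hu huz he
    refine ⟨e, d * g' * d⁻¹ * g'⁻¹, ?_, ?_, he⟩
    · rw [show d * g' * d⁻¹ * g'⁻¹ = d * (g' * d⁻¹ * g'⁻¹) by group]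
      exact mul_mem hd (conj_mem_tGroup hB hg'i.1 (inv_mem hd))
    · have h1 := isQ_mul hB hu huz huz' hq hg'
      have h2 := isQ_conj hB hdi hdu hg'
      rw [hl, hdz] at h2
      rw [hzz', show e + b' - B z z' = l * l * b' by simp only [e]; ring] at h1
      rw [isQ_ext h2 h1, mul_inv_cancel_right]
      exact hq

/-- The transvection group is transitive on hyperbolic pairs. -/
theorem transitive_pairs (h3 : 3 ≤ Module.finrank F V)
    (hq : 4 ≤ Module.finrank F V ∨ ∃ l : F, σ l = l ∧ l ≠ 0 ∧ l ≠ 1) {u v u' v' : V}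
    (hu : B u u = 0) (hv : B v v = 0) (huv : B u v = 1) (hu' : B u' u' = 0) (hv' : B v' v' = 0)
    (huv' : B u' v' = 1) : ∃ g ∈ tGroup B, g u = u' ∧ g v = v' := by
  have hne : ∀ {a b : V}, B a b = 1 → a ≠ 0 := by
    rintro a b h rfl; simp at h
  obtain ⟨g, hg, hgu⟩ := transitive_isotropic hB h3 (hne huv) (hne huv') hu hu'
  have hi := (tGroup_isSIsom hB hg).1
  have h1 : B u' (g v) = 1 := by rw [← hgu, hi, huv]
  have h2 : B (g v) (g v) = 0 := by rw [hi, hv]
  let x := v' - g v
  have hx : B u' x = 0 := by simp [x, h1, huv']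
  obtain ⟨q, hq', hqq⟩ := q_mem hB h3 hq (x := x) (a := B x (g v)) (hne huv') hu' hx (by
    simp only [x, map_sub, LinearMap.sub_apply, hB.symm, h2, hv', map_zero]
    ring)
  refine ⟨q * g, mul_mem hq' hg, ?_, ?_⟩
  · rw [LinearEquiv.mul_apply, hgu, hqq u', hu', herm_zero hB hx]
    simp
  · rw [LinearEquiv.mul_apply, hqq (g v), h1]
    simp [x]

theorem exists_aniso [Nontrivial V] : ∃ a : V, B a a ≠ 0 := by
  obtain ⟨z, hz⟩ := exists_ne (0 : V)
  obtain ⟨a, -, ha⟩ := exists_aniso_perp hB (Fin.elim0 : Fin 0 → V) z (fun i => i.elim0) (by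
    rw [Set.range_eq_empty, Submodule.span_empty, Submodule.mem_bot]; exact hz)
  exact ⟨a, ha⟩

theorem exists_isotropic (h2 : 2 ≤ Module.finrank F V) : ∃ u : V, u ≠ 0 ∧ B u u = 0 := by
  have : Nontrivial V := Module.nontrivial_of_finrank_pos (R := F) (by omega)
  obtain ⟨a, ha⟩ := exists_aniso hB
  obtain ⟨p, hp⟩ : ∃ p, p ∉ Submodule.span F (Set.range ![a]) := by
    by_contra h
    push Not at h
    have htop : Submodule.span F (Set.range ![a]) = ⊤ := Submodule.eq_top_iff'.mpr h
    have := finrank_range_le_card (R := F) ![a]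
    rw [Set.finrank, htop, finrank_top] at this
    simp at this
    omega
  have ham : a ∈ Submodule.span F (Set.range ![a]) := Submodule.subset_span ⟨0, rfl⟩
  obtain ⟨b, hb, hbb⟩ := exists_aniso_perp hB ![a] (p - (B a p / B a a) • a)
    (fun i => by fin_cases i; simp [ha]) (fun h => hp <| by
      have := add_mem h (Submodule.smul_mem _ (B a p / B a a) ham)
      simpa using this)
  have hab : B a b = 0 := by simpa using hb 0
  obtain ⟨t, ht⟩ := hB.norm (-B a a / B b b) (by rw [map_div₀, map_neg, hB.symm, hB.symm])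
  refine ⟨a + t • b, fun h => ha ?_, ?_⟩
  · have := congrArg (B a) h
    simpa [hab] using this
  · have e : B (a + t • b) (a + t • b) = B a a + σ t * t * B b b := by
      simp only [map_add, map_smulₛₗ, LinearMap.add_apply, LinearMap.smul_apply, hab, herm_zero hB hab,
        smul_eq_mul, RingHom.id_apply]
      ring
    rw [e, ht]; field_simp; ring

end CfsgLib.Unitary
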