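import Mathlib
import Cfsg.Prelude.Def_Classical
import Cfsg.Prelude.Def_ClassicalGeometry
import Cfsg.Agent.Lib.Unitary.Transvections
import Cfsg.Agent.Lib.UnitaryEmbed.Herm

/-!
`SU_n(q)` as the determinant-one isometries of `hermSesq`.
-/

set_option autoImplicit false
set_option linter.unusedSectionVars false

namespace CfsgLib.Unitary

open Matrix CfsgLib.UnitaryEmbed

variable {K : Type*} [Field K] [Fintype K] {q n : ℕ}

theorem hform_herm (hK : Fintype.card K = q ^ 2) {τ : K →+* K} (hτ : ∀ x, τ x = x ^ q)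
    (hne : τ ≠ RingHom.id K) (h2 : ∀ x, τ (τ x) = x) : HForm (hermSesq n τ) where
  ne := hne
  invol := h2
  symm := hermSesq_symm τ h2
  nondeg := hermSesq_separatingLeft τ
  norm b hb := by
    obtain ⟨x, hx⟩ := CfsgLib.UnitaryEmbed.exists_norm hK b (by rw [← hτ, hb])
    exact ⟨x, by rw [hτ, ← pow_succ, hx]⟩

/-- `SU_n(q)` acting on column vectors. -/
noncomputable def suEquiv (n : ℕ) (K : Type*) [Field K] (q : ℕ) :
    ↥(Cfsg.SU n K q) →* ((Fin n → K) ≃ₗ[K] (Fin n → K)) where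
  toFun A := Matrix.SpecialLinearGroup.toLin' A.1
  map_one' := by simp
  map_mul' A A' := by
    ext x
    simp [LinearEquiv.mul_apply, Matrix.SpecialLinearGroup.toLin'_apply]

theorem suEquiv_apply (A : ↥(Cfsg.SU n K q)) (x : Fin n → K) :
    suEquiv n K q A x = (A.1 : Matrix (Fin n) (Fin n) K) *ᵥ x := by
  simp [suEquiv, Matrix.SpecialLinearGroup.toLin'_apply]

theorem suEquiv_injective : Function.Injective (suEquiv n K q) := fun A A' h =>
  Subtype.ext (Subtype.ext (Matrix.toLin'.injective (LinearMap.ext fun x => by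
    simpa [suEquiv_apply] using LinearEquiv.congr_fun h x)))

theorem suEquiv_isSIsom {τ : K →+* K} (hτ : ∀ x, τ x = x ^ q) (A : ↥(Cfsg.SU n K q)) :
    IsSIsom (hermSesq n τ) (suEquiv n K q A) := by
  refine ⟨fun x y => ?_, ?_⟩
  · rw [hermSesq_apply τ hτ, hermSesq_apply τ hτ, suEquiv_apply, suEquiv_apply]
    exact A.2 y x
  · have : (suEquiv n K q A : (Fin n → K) →ₗ[K] (Fin n → K)) =
        Matrix.toLin' (A.1 : Matrix (Fin n) (Fin n) K) :=
      LinearMap.ext fun x => by simp [suEquiv_apply]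
    rw [this, LinearMap.det_toLin', A.1.2]

theorem exists_suEquiv {τ : K →+* K} (hτ : ∀ x, τ x = x ^ q) {g : (Fin n → K) ≃ₗ[K] (Fin n → K)}
    (hg : IsSIsom (hermSesq n τ) g) : ∃ A, suEquiv n K q A = g := by
  let M := LinearMap.toMatrix' (g : (Fin n → K) →ₗ[K] (Fin n → K))
  have hM : ∀ x, M *ᵥ x = g x := fun x => by
    simp [M, ← Matrix.toLin'_apply, Matrix.toLin'_toMatrix']
  have hdet : M.det = 1 := by rw [LinearMap.det_toMatrix', hg.2]
  refine ⟨⟨⟨M, hdet⟩, fun u v => ?_⟩, LinearEquiv.ext fun x => by rw [suEquiv_apply]; exact hM x⟩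
  change Cfsg.hermForm n K q (M *ᵥ u) (M *ᵥ v) = Cfsg.hermForm n K q u v
  rw [← hermSesq_apply τ hτ, ← hermSesq_apply τ hτ, hM, hM, hg.1]

theorem unitaryTransvection_mulVec {τ : K →+* K} (hτ : ∀ x, τ x = x ^ q) (v x : Fin n → K) (c : K) :
    Cfsg.unitaryTransvection n q v c *ᵥ x = x + (c * hermSesq n τ v x) • v := by
  rw [hermSesq_apply τ hτ, Cfsg.unitaryTransvection, Matrix.add_mulVec, Matrix.one_mulVec,
    Matrix.smul_mulVec, Matrix.vecMulVec_mulVec, op_smul_eq_smul, smul_smul,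
    show (fun j => v j ^ q) ⬝ᵥ x = Cfsg.hermForm n K q x v from
      Finset.sum_congr rfl fun j _ => mul_comm _ _]

end CfsgLib.Unitary
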