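import Mathlib
import Cfsg.Agent.Lib.Unitary.Transvections

/-!
Determinant-one isometries of a non-degenerate Hermitian form are products of unitary transvections in
dimension at least two, the case of dimension three over a fixed field with two elements excepted.
-/

set_option autoImplicit false
set_option linter.unusedSectionVars false

namespace CfsgLib.Unitary

open CfsgLib.Forms

section Reduce

variable {F V : Type*} [Field F] [AddCommGroup V] [Module F V] [FiniteDimensional F V]
  {σ : F →+* F} (B : V →ₛₗ[σ] V →ₗ[F] F)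

/-- The form on a subspace. -/
def resForm (X : Submodule F V) : X →ₛₗ[σ] X →ₗ[F] F :=
  LinearMap.mk₂'ₛₗ σ (RingHom.id F) (fun x y => B x.1 y.1) (fun x x' y => by simp) (fun c x y => by simp)
    (fun x y y' => by simp) (fun c x y => by simp)

@[simp] theorem resForm_apply (X : Submodule F V) (x y : X) : resForm B X x y = B x.1 y.1 := rfl

variable {B}

theorem hform_ker (hB : HForm B) {a : V} (ha : B a a ≠ 0) :
    HForm (resForm B (LinearMap.ker (B a))) where
  ne := hB.ne
  invol := hB.invol
  symm u v := hB.symm _ _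
  norm := hB.norm
  nondeg := by
    intro x hx
    refine Subtype.ext (hB.nondeg _ fun y => ?_)
    have hy : y - (B a y / B a a) • a ∈ LinearMap.ker (B a) := by simp [ha]
    have := hx ⟨_, hy⟩
    have hxa : B x.1 a = 0 := by rw [← hB.symm, LinearMap.mem_ker.1 x.2, map_zero]
    simpa [hxa] using this

theorem finrank_ker (hB : HForm B) {a : V} (ha : B a a ≠ 0) :
    Module.finrank F (LinearMap.ker (B a)) + 1 = Module.finrank F V := by
  have h := LinearMap.finrank_range_add_finrank_ker (B a)
  rw [LinearMap.range_eq_top.mpr (fun c => ⟨(c / B a a) • a, by simp [ha]⟩), finrank_top,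
    Module.finrank_self] at h
  omega

/-- Splitting along an anisotropic vector. -/
noncomputable def kerSplit {a : V} (ha : B a a ≠ 0) : (LinearMap.ker (B a) × F) ≃ₗ[F] V where
  toFun p := p.1.1 + p.2 • a
  map_add' p p' := by simp only [Prod.fst_add, Prod.snd_add, Submodule.coe_add, add_smul]; abel
  map_smul' c p := by simp [smul_smul]
  invFun x := (⟨x - (B a x / B a a) • a, by simp [ha]⟩, B a x / B a a)
  left_inv p := by
    have h : B a (p.1 : V) = 0 := p.1.2
    refine Prod.ext (Subtype.ext ?_) ?_ <;> simp [h, ha]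
  right_inv x := by simp

/-- An isometry fixing an anisotropic vector is a transvection product as soon as its restriction to the
orthogonal hyperplane is one. -/
theorem mem_tGroup_of_fix (hB : HForm B) {a : V} (ha : B a a ≠ 0) {g : V ≃ₗ[F] V} (hg : IsSIsom B g)
    (hga : g a = a)
    (H : ∀ h : LinearMap.ker (B a) ≃ₗ[F] LinearMap.ker (B a), IsSIsom (resForm B _) h →
      (∀ y, g y.1 = y.1 → h y = y) → h ∈ tGroup (resForm B _)) : g ∈ tGroup B := by
  set X := LinearMap.ker (B a)
  let e := kerSplit (B := B) ha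
  let E : (X ≃ₗ[F] X) →* (V ≃ₗ[F] V) :=
    { toFun := fun h => e.symm.trans ((h.prodCongr (LinearEquiv.refl F F)).trans e)
      map_one' := LinearEquiv.ext fun x => by
        show e ((e.symm x).1, (e.symm x).2) = x
        simp
      map_mul' := fun h h' => LinearEquiv.ext fun x => by
        show e (h (h' (e.symm x).1), (e.symm x).2) =
          e (h (e.symm (e (h' (e.symm x).1, (e.symm x).2))).1,
            (e.symm (e (h' (e.symm x).1, (e.symm x).2))).2)
        rw [e.symm_apply_apply] }
  have hE : ∀ h x, E h x = (h (e.symm x).1 : V) + (B a x / B a a) • a := fun h x => rfl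
  have hsub : ∀ x, ((e.symm x).1 : V) = x - (B a x / B a a) • a := fun x => rfl
  have hsp : ∀ x, ((e.symm x).1 : V) + (B a x / B a a) • a = x := fun x => by rw [hsub, sub_add_cancel]
  have hmem : ∀ x : X, g x.1 ∈ X := fun x => by
    show B a (g x.1) = 0
    have h : B a x.1 = 0 := x.2
    rw [← hga, hg.1, h]
  let h : X ≃ₗ[F] X := LinearEquiv.ofInjectiveEndo ((g : V →ₗ[F] V).restrict fun x hx => hmem ⟨x, hx⟩)
    (fun x y hxy => Subtype.ext (g.injective (congrArg Subtype.val hxy)))
  have hh : ∀ x : X, (h x : V) = g x.1 := fun x => rfl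
  have hgE : g = E h := LinearEquiv.ext fun x => by
    rw [hE, hh]
    conv_lhs => rw [← hsp x]
    rw [map_add, map_smul, hga]
  have hdet : LinearMap.det (h : X →ₗ[F] X) = 1 := by
    have h1 : LinearMap.det ((g : V →ₗ[F] V)) = LinearMap.det (h : X →ₗ[F] X) := by
      have h2 : (g : V →ₗ[F] V) =
          (e : (X × F) →ₗ[F] V) ∘ₗ ((h : X →ₗ[F] X).prodMap LinearMap.id) ∘ₗ (e.symm : V →ₗ[F] X × F) := by
        rw [hgE]; rfl
      rw [h2, LinearMap.det_conj, LinearMap.det_prodMap, LinearMap.det_id, mul_one]
    rw [← h1, hg.2]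
  have hT := H h ⟨fun x y => by simp [hh, hg.1], hdet⟩ (fun y hy => Subtype.ext (by rw [hh, hy]))
  suffices h' : Subgroup.map E (tGroup (resForm B X)) ≤ tGroup B by
    rw [hgE]; exact h' ⟨h, hT, rfl⟩
  rw [tGroup, MonoidHom.map_closure]
  refine Subgroup.closure_mono ?_
  rintro _ ⟨t, ⟨v, c, hv, hc, ht⟩, rfl⟩
  refine ⟨v.1, c, hv, hc, fun x => ?_⟩
  have hva : B v.1 a = 0 := herm_zero hB v.2
  have : B v.1 ((e.symm x).1 : V) = B v.1 x := by rw [hsub]; simp [hva]
  rw [hE, ht _, Submodule.coe_add, Submodule.coe_smul, resForm_apply, this, add_right_comm, hsp]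

end Reduce

universe v

variable {F : Type*} [Field F] {σ : F →+* F}

theorem gen_one {V : Type v} [AddCommGroup V] [Module F V] [FiniteDimensional F V]
    {B : V →ₛₗ[σ] V →ₗ[F] F} (h1 : Module.finrank F V = 1) {g : V ≃ₗ[F] V}
    (hg : IsSIsom B g) : g ∈ tGroup B := by
  obtain ⟨a, ha, hspan⟩ := finrank_eq_one_iff'.mp h1
  obtain ⟨l, hl⟩ := hspan (g a)
  have hgl : (g : V →ₗ[F] V) = l • LinearMap.id := LinearMap.ext fun x => by
    obtain ⟨c, rfl⟩ := hspan x
    simp [← hl, smul_smul, mul_comm]
  have := hg.2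
  rw [hgl, LinearMap.det_smul, h1, pow_one, LinearMap.det_id, mul_one] at this
  rw [show g = 1 from LinearEquiv.toLinearMap_injective (by rw [hgl, this, one_smul]; rfl)]
  exact one_mem _

theorem gen_two {V : Type v} [AddCommGroup V] [Module F V] [FiniteDimensional F V]
    {B : V →ₛₗ[σ] V →ₗ[F] F} (hB : HForm B) (h2 : Module.finrank F V = 2) {g : V ≃ₗ[F] V}
    (hg : IsSIsom B g) : g ∈ tGroup B := by
  obtain ⟨u, hu0, hu⟩ := exists_isotropic hB (le_of_eq h2.symm)
  obtain ⟨v, hv, huv⟩ := exists_partner hB hu0 hu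
  have hvu : B v u = 1 := by rw [← hB.symm, huv, map_one]
  have hcoord : ∀ x, x = B v x • u + B u x • v := fun x => pair_coord hu hv huv hvu (by
    have hli : LinearIndependent F ![u, v] := by
      rw [LinearIndependent.pair_iff]
      intro a b h
      have e1 := congrArg (B u) h
      have e2 := congrArg (B v) h
      simp [hu, huv, hv, hvu] at e1 e2
      exact ⟨e2, e1⟩
    rw [hli.span_eq_top_of_card_eq_finrank (by simp [h2])]
    trivial)
  -- first send `g u` to a multiple of `u`
  suffices key : ∀ g : V ≃ₗ[F] V, IsSIsom B g → B u (g u) = 0 → g ∈ tGroup B by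
    by_cases hβ : B u (g u) = 0
    · exact key g hg hβ
    · set α := B v (g u)
      set β := B u (g u)
      have hgu := hcoord (g u)
      have hiso : σ α * β + α * σ β = 0 := by
        have e := hg.1 u u
        rw [hu, hgu] at e
        simp only [map_add, map_smulₛₗ, LinearMap.add_apply, LinearMap.smul_apply, hu, hv, huv, hvu,
          smul_eq_mul, RingHom.id_apply] at e
        linear_combination e
      have hσβ : σ β ≠ 0 := (map_ne_zero σ).mpr hβ
      have hc : -(α / β) + σ (-(α / β)) = 0 := by
        rw [map_neg, map_div₀]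
        field_simp
        linear_combination -hiso
      obtain ⟨t, ht, htv⟩ := tv_mem hB (v := u) (c := -(α / β)) hu hc
      have htg : t (g u) = β • v := by
        rw [htv, show B u (g u) = β from rfl]
        conv_lhs => rw [hgu]
        match_scalars <;> field_simp <;> ring
      obtain ⟨s, hs0, hs⟩ := exists_skew hB
      obtain ⟨a, ha, hav⟩ := tv_mem hB (v := u) (c := s) hu hs
      obtain ⟨b, hb, hbv⟩ := tv_mem hB (v := v) (c := -s⁻¹) hv (by
        rw [map_neg]; linear_combination -(skew_inv hB hs))
      have hm : a * b * a * t ∈ tGroup B := mul_mem (mul_mem (mul_mem ha hb) ha) ht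
      have hz : B u ((a * b * a * t * g) u) = 0 := by
        simp only [LinearEquiv.mul_apply, htg, hav _, hbv _, map_add, map_smul, hu, hv, huv, hvu,
          smul_eq_mul]
        field_simp
        ring
      have := key _ (isSIsom_mul (tGroup_isSIsom hB hm) hg) hz
      exact (Subgroup.mul_mem_cancel_left _ hm).mp this
  intro g hg h0
  set lam := B v (g u)
  set μ := B u (g v)
  set t := B v (g v)
  have hgu : g u = lam • u := by
    have := hcoord (g u)
    rwa [h0, zero_smul, add_zero] at this
  have hgv : g v = t • u + μ • v := hcoord (g v)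
  have hlam0 : σ lam * μ = 1 := by
    have e := hg.1 u v
    rw [hgu, hgv, huv] at e
    simpa [hu, huv] using e
  have hμ0 : μ ≠ 0 := right_ne_zero_of_mul (hlam0 ▸ one_ne_zero)
  have hiso : σ t * μ + t * σ μ = 0 := by
    have e := hg.1 v v
    rw [hv, hgv] at e
    simp only [map_add, map_smulₛₗ, LinearMap.add_apply, LinearMap.smul_apply, hu, hv, huv, hvu,
      smul_eq_mul, RingHom.id_apply] at e
    linear_combination e
  have hσμ : σ μ ≠ 0 := (map_ne_zero σ).mpr hμ0
  obtain ⟨k, hk, hkv⟩ := tv_mem hB (v := u) (c := -(t / μ)) hu (by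
    rw [map_neg, map_div₀]
    field_simp
    linear_combination -hiso)
  set g' := k * g
  have hg' := isSIsom_mul (tGroup_isSIsom hB hk) hg
  have h1 : g' u = lam • u := by simp [g', hgu, hkv _, hu]
  have h2' : g' v = μ • v := by
    simp only [g', LinearEquiv.mul_apply, hgv, hkv _, map_add, map_smul, hu, huv, smul_eq_mul]
    match_scalars <;> field_simp <;> ring
  have hg'x : ∀ x, g' x = (lam * B v x) • u + (μ * B u x) • v := fun x => by
    conv_lhs => rw [hcoord x]
    rw [map_add, map_smul, map_smul, h1, h2', smul_smul, smul_smul, mul_comm, mul_comm μ]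
  have hdet : lam * μ = 1 := by
    have e : (g' : V →ₗ[F] V) = LinearMap.transvection ((lam - 1) • B v) u *
        LinearMap.transvection ((μ - 1) • B u) v := LinearMap.ext fun x => by
      simp only [LinearEquiv.coe_coe, hg'x, Module.End.mul_apply, LinearMap.transvection.apply,
        LinearMap.smul_apply, map_add, map_smul, hv, smul_eq_mul, mul_zero, add_zero]
      nth_rewrite 3 [hcoord x]
      module
    have := hg'.2
    rw [e, map_mul, LinearMap.transvection.det, LinearMap.transvection.det] at this
    simpa [hvu, huv] using this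
  have hμ : μ = lam⁻¹ := eq_inv_of_mul_eq_one_right hdet
  have hlam1 : lam ≠ 0 := left_ne_zero_of_mul (hdet ▸ one_ne_zero)
  have hfix : σ lam = lam := by
    rw [← mul_left_inj' hμ0, hlam0, hdet]
  obtain ⟨d, hd, hdu, hdv, -⟩ := torus_mem hB hu hv huv hfix hlam1
  have : g' = d := LinearEquiv.ext fun x => by
    conv_rhs => rw [hcoord x]
    rw [hg'x, map_add, map_smul, map_smul, hdu, hdv, smul_smul, smul_smul, hμ]
    module
  exact (Subgroup.mul_mem_cancel_left _ hk).mp (show g' ∈ tGroup B from this ▸ hd)

/-- Generation by transvections. -/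
theorem gen : ∀ {n : ℕ} {V : Type v} [AddCommGroup V] [Module F V] [FiniteDimensional F V]
    {B : V →ₛₗ[σ] V →ₗ[F] F}, HForm B → Module.finrank F V = n → 3 ≤ n →
    (4 ≤ n ∨ ∃ l : F, σ l = l ∧ l ≠ 0 ∧ l ≠ 1) → ∀ g : V ≃ₗ[F] V, IsSIsom B g → g ∈ tGroup B := by
  intro n
  induction n using Nat.strong_induction_on with
  | _ n ih =>
  intro V _ _ _ B hB hn h3 hq g hg
  subst hn
  obtain ⟨u, hu0, hu⟩ := exists_isotropic hB (by omega)
  obtain ⟨v, hv, huv⟩ := exists_partner hB hu0 hu
  obtain ⟨t, ht, htu, htv⟩ := transitive_pairs hB h3 hq (u := g u) (v := g v) (u' := u) (v' := v)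
    (by rw [hg.1, hu]) (by rw [hg.1, hv]) (by rw [hg.1, huv]) hu hv huv
  refine (Subgroup.mul_mem_cancel_left _ ht).mp ?_
  have hg' := isSIsom_mul (tGroup_isSIsom hB ht) hg
  set g' := t * g
  have hgu : g' u = u := by simp [g', htu]
  have hgv : g' v = v := by simp [g', htv]
  have hvu : B v u = 1 := by rw [← hB.symm, huv, map_one]
  obtain ⟨e, he⟩ := exists_trace_ne_zero hB.ne
  set a := u + e • v
  have haa : B a a = e + σ e := by simp [a, hu, hv, huv, hvu, add_comm]
  have haa0 : B a a ≠ 0 := haa ▸ he
  have hdim := finrank_ker hB haa0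
  refine mem_tGroup_of_fix hB haa0 hg' (by simp [a, hgu, hgv]) fun h hh hfix => ?_
  have hX := hform_ker hB haa0
  rcases Nat.lt_or_ge (Module.finrank F V) 5 with h5 | h5
  · -- the second anisotropic vector of the hyperbolic plane
    let a' : LinearMap.ker (B a) := ⟨u - σ e • v, by simp [a, hu, hv, huv, hvu, map_smulₛₗ, add_comm]⟩
    have haa' : resForm B _ a' a' ≠ 0 := by
      intro h0
      apply he
      simp [a', hu, hv, huv, hvu, hB.invol, map_smulₛₗ] at h0
      linear_combination -h0
    refine mem_tGroup_of_fix hX haa' hh (hfix a' (by simp [a', hgu, hgv])) fun k hk _ => ?_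
    have hdim' := finrank_ker hX haa'
    rcases Nat.lt_or_ge (Module.finrank F V) 4 with h4 | h4
    · exact gen_one (by omega) hk
    · exact gen_two (hform_ker hX haa') (by omega) hk
  · exact ih _ (by omega) hX rfl (by omega) (Or.inl (by omega)) h hh

end CfsgLib.Unitary
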