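import Mathlib
import Cfsg.Agent.Lib.Unitary.Transvections
import Cfsg.Agent.Lib.Unitary.Bridge
import Cfsg.Agent.Lib.UnitaryEmbed.HermSpace
import Cfsg.Agent.Lib.ClassicalGroups.HermGroup

/-!
The stabiliser of a totally isotropic subspace in the isometry group of a Hermitian space, counted through
adapted frames.
-/

set_option autoImplicit false
set_option linter.unusedSectionVars false

namespace CfsgLib.Unitary

open CfsgLib.Forms

section Sol

variable {F : Type*} [Field F] [Fintype F] {σ : F →+* F}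

theorem card_fix (hne : σ ≠ RingHom.id F) (h2 : ∀ a, σ (σ a) = a) :
    Nat.card {a : F // σ a = a} * Nat.card {a : F // σ a = a} = Fintype.card F ∧
      ∃ (e s : F), e + σ e = 1 ∧ s ≠ 0 ∧ s + σ s = 0 := by
  obtain ⟨e, he⟩ := exists_trace_eq hne h2 1 (map_one σ)
  obtain ⟨s, hs0, hs⟩ : ∃ s : F, s ≠ 0 ∧ s + σ s = 0 := by
    obtain ⟨a, ha⟩ : ∃ a, σ a ≠ a := by
      by_contra h; push Not at h; exact hne (RingHom.ext h)
    exact ⟨a - σ a, sub_ne_zero.2 (Ne.symm ha), by rw [map_sub, h2]; ring⟩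
  have hσs : σ s = -s := eq_neg_of_add_eq_zero_right hs
  refine ⟨?_, e, s, he, hs0, hs⟩
  rw [← Nat.card_prod, ← Nat.card_eq_fintype_card]
  have hσe : σ e = 1 - e := eq_sub_of_add_eq' he
  refine Nat.card_congr
    { toFun := fun p => p.1.1 * e + p.2.1 * s
      invFun := fun a => (⟨a + σ a, by rw [map_add, h2, add_comm]⟩, ⟨(a - (a + σ a) * e) / s, by
        rw [map_div₀, map_sub, map_mul, map_add, h2, hσs, hσe]; field_simp; ring⟩)
      left_inv := fun p => ?_
      right_inv := fun a => by field_simp; ring }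
  obtain ⟨⟨u, hu⟩, ⟨v, hv⟩⟩ := p
  refine Prod.ext (Subtype.ext ?_) (Subtype.ext ?_)
  · show u * e + v * s + σ (u * e + v * s) = u
    rw [map_add, map_mul, map_mul, hu, hv, hσs, hσe]; ring
  · show (u * e + v * s - (u * e + v * s + σ (u * e + v * s)) * e) / s = v
    rw [map_add, map_mul, map_mul, hu, hv, hσs, hσe]; field_simp; ring

/-- Solutions of `Aᵀ + σ(A) = H` for Hermitian `H`. -/
theorem card_sol (hne : σ ≠ RingHom.id F) (h2 : ∀ a, σ (σ a) = a) {q : ℕ} (hF : Fintype.card F = q ^ 2)
    {k : ℕ} (H : Fin k → Fin k → F) (hH : ∀ i j, σ (H i j) = H j i) :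
    Nat.card {A : Fin k → Fin k → F // ∀ i j, A j i + σ (A i j) = H i j} = q ^ (k * k) := by
  classical
  obtain ⟨hc, e, s, he, hs0, hs⟩ := card_fix hne h2
  have hfix : Nat.card {a : F // σ a = a} = q := by
    rw [hF, ← sq] at hc
    exact Nat.pow_left_injective two_ne_zero hc
  have hσs : σ s = -s := eq_neg_of_add_eq_zero_right hs
  have hσe : σ e = 1 - e := eq_sub_of_add_eq' he
  let U : F → F := fun a => a + σ a
  let W : F → F := fun a => (a - (a + σ a) * e) / s
  have hUf : ∀ a, σ (U a) = U a := fun a => by simp only [U, map_add, h2, add_comm]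
  have hWf : ∀ a, σ (W a) = W a := fun a => by
    simp only [W, map_div₀, map_sub, map_mul, map_add, h2, hσs, hσe]; field_simp; ring
  have hrec : ∀ a, U a * e + W a * s = a := fun a => by simp only [U, W]; field_simp; ring
  have hU : ∀ u v, σ u = u → σ v = v → U (u * e + v * s) = u := fun u v hu hv => by
    simp only [U, map_add, map_mul, hu, hv, hσs, hσe]; ring
  have hW : ∀ u v, σ u = u → σ v = v → W (u * e + v * s) = v := fun u v hu hv => by
    simp only [W, map_add, map_mul, hu, hv, hσs, hσe]; field_simp; ring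
  rw [show q ^ (k * k) = Nat.card (Fin k × Fin k → {a : F // σ a = a}) by
    rw [Nat.card_fun, Nat.card_prod, Nat.card_fin, hfix]]
  let up : (Fin k × Fin k → {a : F // σ a = a}) → Fin k → Fin k → F := fun Z i j =>
    if i < j then (Z (i, j)).1 * e + (Z (j, i)).1 * s else H i i * e + (Z (i, i)).1 * s
  refine Nat.card_congr
    { toFun := fun A p => ⟨if p.1 < p.2 then U (A.1 p.1 p.2) else
        if p.2 < p.1 then W (A.1 p.2 p.1) else W (A.1 p.1 p.1), by split_ifs <;> simp [hUf, hWf]⟩
      invFun := fun Z => ⟨fun i j => if j < i then H j i - σ (up Z j i) else up Z i j, fun i j => ?_⟩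
      left_inv := fun A => Subtype.ext (funext fun i => funext fun j => ?_)
      right_inv := fun Z => funext fun p => Subtype.ext ?_ }
  · dsimp only
    rcases lt_trichotomy i j with h | h | h
    · rw [if_pos h, if_neg h.not_gt]; ring
    · subst h
      have h1 : up Z i i = H i i * e + (Z (i, i)).1 * s := by simp [up]
      rw [if_neg (lt_irrefl i), h1, map_add, map_mul, map_mul, hH, (Z (i, i)).2, hσs, hσe]; ring
    · rw [if_neg h.not_gt, if_pos h, map_sub, h2, hH]; ring
  · dsimp only
    have hdiag : ∀ l, H l l * e + W (A.1 l l) * s = A.1 l l := fun l => by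
      rw [← A.2 l l]; exact hrec _
    rcases lt_trichotomy i j with h | h | h
    · simp [up, h, h.not_gt, hrec]
    · subst h
      simp [up, hdiag]
    · simp only [up, h, if_true, h.not_gt, if_false, hrec]
      rw [← A.2 j i]; ring
  · obtain ⟨i, j⟩ := p
    dsimp only
    rcases lt_trichotomy i j with h | h | h
    · simp [up, h, h.not_gt, hU _ _ (Z (i, j)).2 (Z (j, i)).2]
    · subst h
      simp [up, hW _ _ (hH i i) (Z (i, i)).2]
    · simp [up, h, h.not_gt, hW _ _ (Z (j, i)).2 (Z (i, j)).2]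

end Sol

section Frames

variable {F V : Type*} [Field F] [AddCommGroup V] [Module F V] [FiniteDimensional F V]
  {σ : F →+* F} (B : V →ₛₗ[σ] V →ₗ[F] F)

/-- Bases of a subspace. -/
abbrev Bases (W : Submodule F V) (k : ℕ) : Type _ :=
  {x : Fin k → V // LinearIndependent F x ∧ ∀ i, x i ∈ W}

/-- Isotropic families dual to `x`. -/
abbrev Comp {k : ℕ} (x : Fin k → V) : Type _ :=
  {y : Fin k → V // (∀ i j, B (x i) (y j) = if i = j then 1 else 0) ∧ ∀ i j, B (y i) (y j) = 0}

/-- Orthonormal families orthogonal to `x` and `y`. -/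
abbrev OTup {k : ℕ} (x y : Fin k → V) (d : ℕ) : Type _ :=
  {o : Fin d → V // (∀ i j, B (x i) (o j) = 0) ∧ (∀ i j, B (y i) (o j) = 0) ∧
    ∀ i j, B (o i) (o j) = if i = j then 1 else 0}

/-- The linear map sending the frame `(x, y, o)` to `(x', y', o')`. -/
def comb {k d : ℕ} (x y : Fin k → V) (o : Fin d → V) (x' y' : Fin k → V) (o' : Fin d → V) : V →ₗ[F] V :=
  (∑ i, (B (y i)).smulRight (x' i)) + (∑ i, (B (x i)).smulRight (y' i)) + ∑ i, (B (o i)).smulRight (o' i)

theorem comb_apply {k d : ℕ} (x y : Fin k → V) (o : Fin d → V) (x' y' : Fin k → V) (o' : Fin d → V)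
    (v : V) :
    comb B x y o x' y' o' v = (∑ i, B (y i) v • x' i) + (∑ i, B (x i) v • y' i) + ∑ i, B (o i) v • o' i := by
  simp [comb]

/-- The stabiliser of `W` among the isometries. -/
def stabW (W : Submodule F V) : Subgroup (V ≃ₗ[F] V) where
  carrier := {g | (∀ u v, B (g u) (g v) = B u v) ∧ ∀ v, v ∈ W ↔ g v ∈ W}
  one_mem' := ⟨fun _ _ => rfl, fun _ => Iff.rfl⟩
  mul_mem' {a b} ha hb :=
    ⟨fun u v => (ha.1 (b u) (b v)).trans (hb.1 u v), fun v => (hb.2 v).trans (ha.2 (b v))⟩
  inv_mem' {a} ha := ⟨isom_inv ha.1, fun v => by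
    have := ha.2 (a.symm v)
    rw [a.apply_symm_apply] at this
    exact this.symm⟩

theorem mem_stabW {W : Submodule F V} {g : V ≃ₗ[F] V} :
    g ∈ stabW B W ↔ (∀ u v, B (g u) (g v) = B u v) ∧ ∀ v, v ∈ W ↔ g v ∈ W := Iff.rfl

variable {B} (hB : HForm B)
include hB

theorem exists_comp {k : ℕ} {x : Fin k → V} (hx : LinearIndependent F x)
    (hxx : ∀ i j, B (x i) (x j) = 0) [Fintype F] {q : ℕ} (hF : Fintype.card F = q ^ 2) :
    Nonempty (Comp B x) := by
  classical
  have hdual : ∀ j, ∃ p, (∀ i, B (x i) p = if i = j then 1 else 0) := fun j => by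
    obtain ⟨p, hp, hp1⟩ := exists_orth_pair_one (fun a => ⟨σ a, hB.invol a⟩) B hB.nondeg
      (fun i : {i : Fin k // i ≠ j} => x i) (x j) (by
        have := hx.notMem_span_image (s := {i : Fin k | i ≠ j}) (x := j) (by simp)
        rwa [Set.image_eq_range] at this)
    refine ⟨p, fun i => ?_⟩
    by_cases h : i = j
    · subst h; simpa using hp1
    · simpa [h] using hp ⟨i, h⟩
  choose p hp using hdual
  have hq : 0 < q ^ (k * k) := by
    have : 0 < q := Nat.pos_of_ne_zero fun h => by simp [h] at hF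
    positivity
  rw [← card_sol hB.ne hB.invol hF (fun i j => -B (p j) (p i))
    (fun i j => by rw [map_neg, hB.symm]), Nat.card_pos_iff] at hq
  obtain ⟨⟨⟨A, hA⟩⟩, -⟩ := hq
  have hpx : ∀ i j, B (p j) (x i) = if i = j then 1 else 0 := fun i j => by
    rw [← hB.symm, hp]; split_ifs <;> simp
  refine ⟨⟨fun j => p j + ∑ i, A i j • x i, fun i j => by simp [hp, hxx], fun i j => ?_⟩⟩
  have := hA j i
  simp only [map_add, map_sum, map_smulₛₗ, LinearMap.add_apply, LinearMap.sum_apply, LinearMap.smul_apply,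
    hp, hpx, hxx, smul_eq_mul, RingHom.id_apply, mul_ite, mul_one, mul_zero, Finset.sum_ite_eq',
    Finset.mem_univ, if_true, Finset.sum_const_zero, add_zero]
  linear_combination this

/-- The orthogonal of a hyperbolic frame. -/
theorem finrank_frame_orth {k : ℕ} {x y : Fin k → V} (hxx : ∀ i j, B (x i) (x j) = 0)
    (hxy : ∀ i j, B (x i) (y j) = if i = j then 1 else 0) (hyy : ∀ i j, B (y i) (y j) = 0) :
    ∃ U : Submodule F V, (∀ v, v ∈ U ↔ (∀ i, B (x i) v = 0) ∧ ∀ i, B (y i) v = 0) ∧
      Module.finrank F U + 2 * k = Module.finrank F V ∧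
      ∀ v, v - ((∑ i, B (y i) v • x i) + ∑ i, B (x i) v • y i) ∈ U := by
  classical
  have hyx : ∀ i j, B (y i) (x j) = if i = j then 1 else 0 := fun i j => by
    rw [← hB.symm, hxy]; simp [apply_ite σ, eq_comm]
  let L : V →ₗ[F] (Fin k → F) × (Fin k → F) :=
    (LinearMap.pi fun i => B (x i)).prod (LinearMap.pi fun i => B (y i))
  have hU : ∀ v, v ∈ LinearMap.ker L ↔ (∀ i, B (x i) v = 0) ∧ ∀ i, B (y i) v = 0 := fun v => by
    simp [L, funext_iff]
  refine ⟨LinearMap.ker L, hU, ?_, fun v => (hU _).mpr ⟨fun j => ?_, fun j => ?_⟩⟩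
  · have h := LinearMap.finrank_range_add_finrank_ker L
    rw [LinearMap.range_eq_top.mpr fun p => ⟨(∑ i, p.1 i • y i) + ∑ i, p.2 i • x i, ?_⟩, finrank_top,
      Module.finrank_prod, Module.finrank_fin_fun] at h
    · omega
    · refine Prod.ext (funext fun j => ?_) (funext fun j => ?_) <;>
        simp [L, hxx, hxy, hyx, hyy]
  · simp [hxx, hxy]
  · simp [hyx, hyy]

theorem card_comp [Fintype F] {q : ℕ} (hF : Fintype.card F = q ^ 2) {k d : ℕ} {x : Fin k → V}
    (hx : LinearIndependent F x) (hxx : ∀ i j, B (x i) (x j) = 0)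
    (hn : Module.finrank F V = 2 * k + d) : Nat.card (Comp B x) = q ^ (k * k + 2 * d * k) := by
  classical
  obtain ⟨⟨y₀, hxy, hyy⟩⟩ := exists_comp hB hx hxx hF
  have hyx : ∀ i j, B (y₀ i) (x j) = if i = j then 1 else 0 := fun i j => by
    rw [← hB.symm, hxy]; simp [apply_ite σ, eq_comm]
  obtain ⟨U, hU, hUd, hUdec⟩ := finrank_frame_orth hB hxx hxy hyy
  have hUU : ∀ w : U, ∀ i, B (x i) w.1 = 0 ∧ B w.1 (x i) = 0 ∧ B (y₀ i) w.1 = 0 ∧ B w.1 (y₀ i) = 0 :=
    fun w i => ⟨((hU _).mp w.2).1 i, herm_zero hB (((hU _).mp w.2).1 i), ((hU _).mp w.2).2 i,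
      herm_zero hB (((hU _).mp w.2).2 i)⟩
  let P := Σ w : Fin k → U, {A : Fin k → Fin k → F // ∀ i j, A j i + σ (A i j) = -B (w j).1 (w i).1}
  let mk : (Fin k → U) → (Fin k → Fin k → F) → Fin k → V :=
    fun w A j => (∑ i, A i j • x i) + y₀ j + (w j).1
  have hmk1 : ∀ w A i j, B (x i) (mk w A j) = if i = j then 1 else 0 := fun w A i j => by
    simp [mk, hxx, hxy, (hUU (w j) i).1]
  have hmk2 : ∀ w A i j, B (mk w A i) (mk w A j) = σ (A j i) + A i j + B (w i).1 (w j).1 := fun w A i j => by
    simp only [mk, map_add, map_sum, map_smulₛₗ, LinearMap.add_apply, LinearMap.sum_apply,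
      LinearMap.smul_apply, hxx, hxy, hyx, hyy, fun l => (hUU (w i) l).2.1, fun l => (hUU (w i) l).2.2.2,
      fun l => (hUU (w j) l).1, fun l => (hUU (w j) l).2.2.1, smul_eq_mul, RingHom.id_apply, mul_ite,
      mul_one, mul_zero, Finset.sum_ite_eq', Finset.sum_ite_eq, Finset.mem_univ, if_true, Finset.sum_const_zero,
      add_zero, zero_add]
    ring
  let f : P → Comp B x := fun p => ⟨mk p.1 p.2.1, hmk1 _ _, fun i j => by
    rw [hmk2]; linear_combination p.2.2 j i⟩
  have hcoef : ∀ w A i j, B (y₀ i) (mk w A j) = A i j := fun w A i j => by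
    simp [mk, hyx, hyy, (hUU (w j) i).2.2.1]
  have hf : Function.Bijective f := by
    constructor
    · rintro ⟨w, A, hA⟩ ⟨w', A', hA'⟩ h
      have h' : mk w A = mk w' A' := congrArg Subtype.val h
      obtain rfl : A = A' := funext fun i => funext fun j => by rw [← hcoef w A i j, h', hcoef]
      obtain rfl : w = w' := funext fun j => Subtype.ext (by
        have := congrFun h' j
        simpa [mk] using this)
      rfl
    · rintro ⟨y, hy1, hy2⟩
      let A : Fin k → Fin k → F := fun i j => B (y₀ i) (y j)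
      let w : Fin k → U := fun j => ⟨y j - ((∑ i, A i j • x i) + y₀ j), by
        have := hUdec (y j)
        simpa [A, hy1] using this⟩
      have hmy : mk w A = y := funext fun j => by simp [mk, w]
      refine ⟨⟨w, A, fun i j => ?_⟩, Subtype.ext hmy⟩
      have := hy2 j i
      rw [← hmy, hmk2] at this
      linear_combination this
  have : Finite V := Module.finite_of_finite F
  have : Fintype U := Fintype.ofFinite _
  rw [← Nat.card_congr (Equiv.ofBijective f hf), Nat.card_sigma]
  have hcst : ∀ w : Fin k → U, Nat.card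
      {A : Fin k → Fin k → F // ∀ i j, A j i + σ (A i j) = -B (w j).1 (w i).1} = q ^ (k * k) :=
    fun w => card_sol hB.ne hB.invol hF _ fun i j => by rw [map_neg, hB.symm]
  simp only [hcst, Finset.sum_const, smul_eq_mul, Finset.card_univ]
  rw [Fintype.card_fun, Fintype.card_fin, Module.card_eq_pow_finrank (K := F) (V := U), hF,
    show Module.finrank F U = d by omega, ← pow_mul, ← pow_mul, ← pow_add]
  congr 1; ring

theorem card_otup [Fintype F] {q : ℕ} (hF : Fintype.card F = q ^ 2) (hσ : ∀ a, σ a = a ^ q) {k d : ℕ}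
    {x y : Fin k → V} (hxx : ∀ i j, B (x i) (x j) = 0)
    (hxy : ∀ i j, B (x i) (y j) = if i = j then 1 else 0) (hyy : ∀ i j, B (y i) (y j) = 0)
    (hn : Module.finrank F V = 2 * k + d) : Nat.card (OTup B x y d) = Nat.card (Cfsg.GU d F q) := by
  classical
  have hyx : ∀ i j, B (y i) (x j) = if i = j then 1 else 0 := fun i j => by
    rw [← hB.symm, hxy]; simp [apply_ite σ, eq_comm]
  obtain ⟨U, hU, hUd, hUdec⟩ := finrank_frame_orth hB hxx hxy hyy
  let B' : U →ₛₗ[σ] U →ₗ[F] F :=
    LinearMap.mk₂'ₛₗ σ (RingHom.id F) (fun a b => B a.1 b.1) (fun a a' b => by simp) (fun c a b => by simp)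
      (fun a b b' => by simp) (fun c a b => by simp)
  have hB' : B'.SeparatingLeft := fun a ha => Subtype.ext (hB.nondeg _ fun v => by
    have hax : ∀ i, B a.1 (x i) = 0 := fun i => herm_zero hB (((hU _).mp a.2).1 i)
    have hay : ∀ i, B a.1 (y i) = 0 := fun i => herm_zero hB (((hU _).mp a.2).2 i)
    have := ha ⟨_, hUdec v⟩
    simpa [B', hax, hay] using this)
  obtain ⟨b, hb⟩ := CfsgLib.UnitaryEmbed.exists_orthonormal_herm hF σ hσ hB.ne hB.invol d B'
    (fun u v => hB.symm u.1 v.1) hB' (by omega)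
  let L : (Fin d → F) →ₗ[F] V := ∑ i, (LinearMap.proj i).smulRight (b i).1
  have hL : ∀ u v, B (L u) (L v) = CfsgLib.UnitaryEmbed.hermSesq d σ u v := fun u v => by
    have hb' : ∀ i j, B (b i).1 (b j).1 = if i = j then 1 else 0 := hb
    simp [L, CfsgLib.UnitaryEmbed.hermSesq, map_sum, hb', mul_comm]
  have hLinj : Function.Injective L := by
    rw [injective_iff_map_eq_zero]
    intro v hv
    exact CfsgLib.UnitaryEmbed.hermSesq_separatingLeft σ v fun w => by rw [← hL, hv]; simp
  have hLmem : ∀ v, L v ∈ U := fun v => by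
    simp only [L, LinearMap.sum_apply]
    exact sum_mem fun i _ => Submodule.smul_mem _ _ (b i).2
  have hLsurj : ∀ v ∈ U, ∃ w, L w = v := fun v hv => by
    have heq : LinearMap.range L = U := Submodule.eq_of_le_of_finrank_eq
      (by rintro _ ⟨w, rfl⟩; exact hLmem w)
      (by rw [LinearMap.finrank_range_of_inj hLinj, Module.finrank_fin_fun]; omega)
    rw [← heq] at hv
    exact hv
  let f : Cfsg.GU d F q → OTup B x y d := fun g =>
    ⟨fun i => L (g.1.1.mulVec (Pi.single i 1)), fun i j => ((hU _).mp (hLmem _)).1 i,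
      fun i j => ((hU _).mp (hLmem _)).2 i, fun i j => by
        rw [hL, CfsgLib.UnitaryEmbed.hermSesq_apply σ hσ, CfsgLib.ClassicalGroups.mem_GU_iff.mp g.2,
          ← CfsgLib.UnitaryEmbed.hermSesq_apply σ hσ, CfsgLib.UnitaryEmbed.hermSesq_single]⟩
  refine (Nat.card_congr (Equiv.ofBijective f ⟨fun g g' h => ?_, fun o => ?_⟩)).symm
  · exact Subtype.ext (Units.ext (Matrix.ext_of_mulVec_single fun i =>
      hLinj (congrFun (congrArg Subtype.val h) i)))
  · obtain ⟨o, ho1, ho2, ho3⟩ := o
    choose c hc using fun i => hLsurj (o i) ((hU _).mpr ⟨fun l => ho1 l i, fun l => ho2 l i⟩)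
    let M : (Fin d → F) →ₗ[F] (Fin d → F) := ∑ i, (LinearMap.proj i).smulRight (c i)
    obtain ⟨g, hg⟩ := CfsgLib.ClassicalGroups.exists_GU_of_preserving hF M (fun u v => by
      rw [← CfsgLib.UnitaryEmbed.hermSesq_apply σ hσ, ← CfsgLib.UnitaryEmbed.hermSesq_apply σ hσ, ← hL]
      simp [M, map_sum, hc, ho3, CfsgLib.UnitaryEmbed.hermSesq, mul_comm])
    refine ⟨g, Subtype.ext (funext fun i => ?_)⟩
    show L _ = o i
    rw [hg, ← hc i]
    congr 1
    simp [M, Pi.single_apply]

/-- Isometries stabilising a totally isotropic subspace correspond to adapted frames. -/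
theorem card_stabW [Fintype F] {q : ℕ} (hF : Fintype.card F = q ^ 2) (hσ : ∀ a, σ a = a ^ q) {k d : ℕ}
    (W : Submodule F V) (hWk : Module.finrank F W = k) (hW : ∀ u ∈ W, ∀ v ∈ W, B u v = 0)
    (hn : Module.finrank F V = 2 * k + d) :
    Nat.card (stabW B W) = Nat.card (Bases W k) * q ^ (k * k + 2 * d * k) * Nat.card (Cfsg.GU d F q) := by
  classical
  have : Finite V := Module.finite_of_finite F
  let b := Module.finBasisOfFinrankEq F W hWk
  let x : Fin k → V := fun i => (b i).1
  have hx : LinearIndependent F x := b.linearIndependent.map' W.subtype (Submodule.ker_subtype W)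
  have hxx : ∀ i j, B (x i) (x j) = 0 := fun i j => hW _ (b i).2 _ (b j).2
  obtain ⟨⟨y, hxy, hyy⟩⟩ := exists_comp hB hx hxx hF
  have hot : 0 < Nat.card (OTup B x y d) := by
    rw [card_otup hB hF hσ hxx hxy hyy hn]; exact Nat.card_pos
  obtain ⟨⟨⟨o, hxo, hyo, hoo⟩⟩, -⟩ := Nat.card_pos_iff.mp hot
  have hspan : ∀ {x' : Fin k → V}, LinearIndependent F x' → (∀ i, x' i ∈ W) →
      Submodule.span F (Set.range x') = W := fun {x'} h1 h2 =>
    Submodule.eq_of_le_of_finrank_eq (Submodule.span_le.mpr (Set.range_subset_iff.mpr h2))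
      (by rw [finrank_span_eq_card h1, Fintype.card_fin, hWk])
  have hyx : ∀ i j, B (y i) (x j) = if i = j then 1 else 0 := fun i j => by
    rw [← hB.symm, hxy]; simp [apply_ite σ, eq_comm]
  have hox : ∀ i j, B (o j) (x i) = 0 := fun i j => herm_zero hB (hxo i j)
  have hoy : ∀ i j, B (o j) (y i) = 0 := fun i j => herm_zero hB (hyo i j)
  let T := Σ x' : Bases W k, Σ y' : Comp B x'.1, OTup B x'.1 y'.1 d
  let C : T → V →ₗ[F] V := fun t => comb B x y o t.1.1 t.2.1.1 t.2.2.1
  have hCx : ∀ t i, C t (x i) = t.1.1 i := fun t i => by simp [C, comb_apply, hxx, hyx, hox]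
  have hCy : ∀ t i, C t (y i) = t.2.1.1 i := fun t i => by simp [C, comb_apply, hyy, hxy, hoy]
  have hCo : ∀ t i, C t (o i) = t.2.2.1 i := fun t i => by simp [C, comb_apply, hxo, hyo, hoo]
  let base : T := ⟨⟨x, hx, fun i => (b i).2⟩, ⟨y, hxy, hyy⟩, ⟨o, hxo, hyo, hoo⟩⟩
  let E : V → V → F := fun u v => (∑ i, σ (B (y i) u) * B (x i) v) + (∑ i, σ (B (x i) u) * B (y i) v) +
    ∑ i, σ (B (o i) u) * B (o i) v
  have hCE : ∀ t u v, B (C t u) (C t v) = E u v := fun t u v => by
    have a1 : ∀ i j, B (t.1.1 i) (t.1.1 j) = 0 := fun i j => hW _ (t.1.2.2 i) _ (t.1.2.2 j)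
    have a2 := t.2.1.2.1
    have a3 : ∀ i j, B (t.2.1.1 i) (t.1.1 j) = if i = j then 1 else 0 := fun i j => by
      rw [← hB.symm, a2]; simp [apply_ite σ, eq_comm]
    have a4 := t.2.1.2.2
    have a5 := t.2.2.2.1
    have a6 := t.2.2.2.2.1
    have a7 := t.2.2.2.2.2
    have a8 : ∀ i j, B (t.2.2.1 j) (t.1.1 i) = 0 := fun i j => herm_zero hB (a5 i j)
    have a9 : ∀ i j, B (t.2.2.1 j) (t.2.1.1 i) = 0 := fun i j => herm_zero hB (a6 i j)
    simp [C, E, comb_apply, map_sum, a1, a2, a3, a4, a5, a6, a7, a8, a9, mul_comm]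
  -- the identity frame gives the identity map
  have hbase : ∀ v, C base v = v := fun v => by
    have hidem : C base (C base v) = C base v := by
      have h : C base v = (∑ i, B (y i) v • x i) + (∑ i, B (x i) v • y i) + ∑ i, B (o i) v • o i :=
        comb_apply B x y o x y o v
      rw [h, map_add, map_add, map_sum, map_sum, map_sum]
      simp only [map_smul, hCx, hCy, hCo]
      rfl
    have hinj : Function.Injective (C base) := by
      have hrange : ∀ w, (∀ i, B (x i) w = 0) → (∀ i, B (y i) w = 0) → (∀ i, B (o i) w = 0) → w = 0 := by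
        intro w h1 h2 h3
        obtain ⟨U, hU, hUd, -⟩ := finrank_frame_orth hB hxx hxy hyy
        let L : U →ₗ[F] (Fin d → F) := (LinearMap.pi fun i => B (o i)).comp U.subtype
        have hLs : Function.Surjective L := fun c => by
          refine ⟨⟨∑ i, c i • o i, (hU _).mpr ⟨fun i => by simp [hxo], fun i => by simp [hyo]⟩⟩, ?_⟩
          funext j; simp [L, hoo]
        have hLi : Function.Injective L :=
          (LinearMap.injective_iff_surjective_of_finrank_eq_finrank (by
            rw [Module.finrank_fin_fun]; omega)).mpr hLs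
        have : (⟨w, (hU _).mpr ⟨h1, h2⟩⟩ : U) = 0 := hLi (by rw [map_zero]; funext i; simp [L, h3])
        exact congrArg Subtype.val this
      rw [injective_iff_map_eq_zero]
      intro w hw
      refine hrange w (fun i => ?_) (fun i => ?_) (fun i => ?_)
      · have e : B (x i) (C base w) = B (x i) w := by
          simp [C, base, comb_apply, hxx, hxy, hxo]
        rw [← e, hw, map_zero]
      · have e : B (y i) (C base w) = B (y i) w := by
          simp [C, base, comb_apply, hyy, hyx, hyo]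
        rw [← e, hw, map_zero]
      · have e : B (o i) (C base w) = B (o i) w := by
          simp [C, base, comb_apply, hox, hoy, hoo]
        rw [← e, hw, map_zero]
    exact hinj hidem
  have hE : ∀ u v, E u v = B u v := fun u v => by rw [← hCE base, hbase, hbase]
  have hiso : ∀ t u v, B (C t u) (C t v) = B u v := fun t u v => by rw [hCE, hE]
  have hmap : ∀ t, ∀ v ∈ W, C t v ∈ W := fun t v hv => by
    rw [← hspan hx fun i => (b i).2] at hv
    induction hv using Submodule.span_induction with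
    | mem v hv => obtain ⟨i, rfl⟩ := hv; rw [hCx]; exact t.1.2.2 i
    | zero => rw [map_zero]; exact zero_mem _
    | add u v _ _ hu hv => rw [map_add]; exact add_mem hu hv
    | smul c v _ hv => rw [map_smul]; exact Submodule.smul_mem _ c hv
  let g : T → stabW B W := fun t => ⟨sesqIsoOfPreserves B hB.nondeg (C t) (hiso t), fun u v => by
    simp [hiso], fun v => by
      have heq : W.map (sesqIsoOfPreserves B hB.nondeg (C t) (hiso t)).toLinearMap = W :=
        Submodule.eq_of_le_of_finrank_eq (Submodule.map_le_iff_le_comap.mpr (hmap t))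
          (LinearEquiv.finrank_map_eq _ _)
      refine ⟨hmap t v, fun hv => ?_⟩
      rw [← heq] at hv
      obtain ⟨w, hw, hwv⟩ := hv
      rwa [← (sesqIsoOfPreserves B hB.nondeg (C t) (hiso t)).injective hwv]⟩
  have hg : Function.Bijective g := by
    constructor
    · rintro ⟨x₁, y₁, o₁⟩ ⟨x₂, y₂, o₂⟩ h
      have h' : ∀ v, C ⟨x₁, y₁, o₁⟩ v = C ⟨x₂, y₂, o₂⟩ v := fun v =>
        LinearEquiv.congr_fun (congrArg Subtype.val h) v
      obtain rfl : x₁ = x₂ := Subtype.ext (funext fun i => by simpa only [hCx] using h' (x i))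
      obtain rfl : y₁ = y₂ := Subtype.ext (funext fun i => by simpa only [hCy] using h' (y i))
      obtain rfl : o₁ = o₂ := Subtype.ext (funext fun i => by simpa only [hCo] using h' (o i))
      rfl
    · rintro ⟨f, hf1, hf2⟩
      refine ⟨⟨⟨fun i => f (x i), hx.map' f.toLinearMap (LinearEquiv.ker f), fun i => (hf2 _).mp (b i).2⟩,
        ⟨fun i => f (y i), fun i j => by rw [hf1, hxy], fun i j => by rw [hf1, hyy]⟩,
        ⟨fun i => f (o i), fun i j => by rw [hf1, hxo], fun i j => by rw [hf1, hyo],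
          fun i j => by rw [hf1, hoo]⟩⟩, Subtype.ext (LinearEquiv.ext fun v => ?_)⟩
      show comb B x y o (fun i => f (x i)) (fun i => f (y i)) (fun i => f (o i)) v = f v
      conv_rhs => rw [← hbase v]
      show _ = f (comb B x y o x y o v)
      simp [comb_apply]
  rw [← Nat.card_congr (Equiv.ofBijective g hg)]
  have : Finite (Bases W k) := Subtype.finite
  have hinner : ∀ x' : Bases W k, Nat.card (Σ y' : Comp B x'.1, OTup B x'.1 y'.1 d) =
      q ^ (k * k + 2 * d * k) * Nat.card (Cfsg.GU d F q) := fun x' => by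
    have hxx' : ∀ i j, B (x'.1 i) (x'.1 j) = 0 := fun i j => hW _ (x'.2.2 i) _ (x'.2.2 j)
    have : Finite (Comp B x'.1) := Subtype.finite
    have : Fintype (Comp B x'.1) := Fintype.ofFinite _
    have : ∀ y' : Comp B x'.1, Finite (OTup B x'.1 y'.1 d) := fun _ => Subtype.finite
    rw [Nat.card_sigma, Finset.sum_congr rfl fun y' _ => card_otup hB hF hσ hxx' y'.2.1 y'.2.2 hn,
      Finset.sum_const, smul_eq_mul, Finset.card_univ, ← Nat.card_eq_fintype_card,
      card_comp hB hF x'.2.1 hxx' hn]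
  have : Fintype (Bases W k) := Fintype.ofFinite _
  have : ∀ x' : Bases W k, Finite (Σ y' : Comp B x'.1, OTup B x'.1 y'.1 d) := fun x' => by
    have : Finite (Comp B x'.1) := Subtype.finite
    have : ∀ y' : Comp B x'.1, Finite (OTup B x'.1 y'.1 d) := fun _ => Subtype.finite
    infer_instance
  rw [Nat.card_sigma, Finset.sum_congr rfl fun x' _ => hinner x', Finset.sum_const, smul_eq_mul,
    Finset.card_univ, ← Nat.card_eq_fintype_card]
  ring

/-- Every norm-one scalar is the determinant of an isometry preserving a totally isotropic subspace. -/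
theorem exists_det_stab (W : Submodule F V) (hW : ∀ u ∈ W, ∀ v ∈ W, B u v = 0) [Nontrivial V] {μ : F}
    (hμ : σ μ * μ = 1) :
    ∃ f : V →ₗ[F] V, (∀ u v, B (f u) (f v) = B u v) ∧ (∀ v ∈ W, f v ∈ W) ∧ LinearMap.det f = μ := by
  by_cases hbot : W = ⊥
  · obtain ⟨a, ha⟩ := exists_aniso hB
    have has : σ (B a a) = B a a := hB.symm a a
    refine ⟨LinearMap.transvection (((μ - 1) / B a a) • B a) a, fun u v => ?_, fun v hv => ?_, ?_⟩
    · simp only [LinearMap.transvection.apply, LinearMap.smul_apply, map_add, map_smulₛₗ,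
        LinearMap.add_apply, LinearMap.smul_apply, smul_eq_mul, RingHom.id_apply, map_mul, map_sub,
        map_div₀, map_one, has, hB.symm]
      field_simp
      linear_combination (B u a * B a v) * hμ
    · rw [hbot, Submodule.mem_bot] at hv ⊢; simp [hv]
    · rw [LinearMap.transvection.det]; simp [ha]
  · obtain ⟨u, huW, hu0⟩ := Submodule.exists_mem_ne_zero_of_ne_bot hbot
    have huu := hW u huW u huW
    obtain ⟨v, hv, huv⟩ := exists_partner hB hu0 huu
    have hvu : B v u = 1 := by rw [← hB.symm, huv, map_one]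
    obtain ⟨l, hl0, hl⟩ : ∃ l : F, l ≠ 0 ∧ μ * σ l = l := by
      by_cases h1 : (1 : F) + μ = 0
      · obtain ⟨s, hs0, hs⟩ := exists_skew hB
        exact ⟨s, hs0, by linear_combination (σ s) * h1 - hs⟩
      · exact ⟨1 + μ, h1, by rw [map_add, map_one]; linear_combination hμ⟩
    have hσl : σ l ≠ 0 := (map_ne_zero σ).mpr hl0
    refine ⟨LinearMap.transvection ((l - 1) • B v) u * LinearMap.transvection (((σ l)⁻¹ - 1) • B u) v,
      fun x y => ?_, fun w hw => ?_, ?_⟩
    · simp only [Module.End.mul_apply, LinearMap.transvection.apply, LinearMap.smul_apply, map_add,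
        map_smulₛₗ, LinearMap.add_apply, LinearMap.smul_apply, smul_eq_mul, RingHom.id_apply,
        map_mul, map_sub, map_one, map_inv₀, map_zero, hB.invol, hB.symm, huu, hv, huv, hvu]
      field_simp
      ring
    · simp only [Module.End.mul_apply, LinearMap.transvection.apply, LinearMap.smul_apply,
        hW u huW w hw, smul_zero, zero_smul, add_zero]
      exact add_mem hw (Submodule.smul_mem _ _ huW)
    · rw [map_mul, LinearMap.transvection.det, LinearMap.transvection.det]
      simp only [LinearMap.smul_apply, hvu, huv, smul_eq_mul, mul_one, add_sub_cancel]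
      rw [← div_eq_mul_inv, div_eq_iff hσl, hl]

theorem card_bases [Fintype F] {q : ℕ} (hF : Fintype.card F = q) {k : ℕ} (W : Submodule F V)
    (hWk : Module.finrank F W = k) :
    Nat.card (Bases W k) = ∏ i : Fin k, (q ^ k - q ^ (i : ℕ)) := by
  have : Finite V := Module.finite_of_finite F
  have e : Bases W k ≃ {s : Fin k → W // LinearIndependent F s} :=
    { toFun := fun y => ⟨fun i => ⟨y.1 i, y.2.2 i⟩, LinearIndependent.of_comp W.subtype y.2.1⟩
      invFun := fun s => ⟨fun i => (s.1 i : V),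
        s.2.map' W.subtype (Submodule.ker_subtype W), fun i => (s.1 i).2⟩
      left_inv := fun _ => rfl
      right_inv := fun _ => rfl }
  rw [Nat.card_congr e, card_linearIndependent hWk.ge, hWk, hF]

end Frames

end CfsgLib.Unitary

namespace CfsgLib.Unitary

section StdSpace

variable {F : Type*} [Field F] [Fintype F] {q n : ℕ} {τ : F →+* F}

/-- The special stabiliser in matrices and as isometries. -/
theorem card_su_stab (hτ : ∀ x, τ x = x ^ q) (W : Submodule F (Fin n → F)) :
    Nat.card ↥((Cfsg.stabilizing (Cfsg.slToMat n F) (W : Set (Fin n → F))).subgroupOf (Cfsg.SU n F q)) =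
      Nat.card {g : (Fin n → F) ≃ₗ[F] (Fin n → F) // g ∈ stabW (CfsgLib.UnitaryEmbed.hermSesq n τ) W ∧
        LinearMap.det (g : (Fin n → F) →ₗ[F] (Fin n → F)) = 1} := by
  let f : ↥((Cfsg.stabilizing (Cfsg.slToMat n F) (W : Set (Fin n → F))).subgroupOf (Cfsg.SU n F q)) →
      {g : (Fin n → F) ≃ₗ[F] (Fin n → F) // g ∈ stabW (CfsgLib.UnitaryEmbed.hermSesq n τ) W ∧
        LinearMap.det (g : (Fin n → F) →ₗ[F] (Fin n → F)) = 1} := fun A =>
    ⟨suEquiv n F q A.1, (mem_stabW (CfsgLib.UnitaryEmbed.hermSesq n τ)).mpr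
      ⟨(suEquiv_isSIsom hτ A.1).1, fun v => by rw [suEquiv_apply]; exact A.2 v⟩,
      (suEquiv_isSIsom hτ A.1).2⟩
  refine Nat.card_congr (Equiv.ofBijective f ⟨fun A A' h => ?_, ?_⟩)
  · have h' : suEquiv n F q A.1 = suEquiv n F q A'.1 := congrArg Subtype.val h
    exact Subtype.ext (suEquiv_injective h')
  · rintro ⟨g, hg, hdet⟩
    obtain ⟨hg1, hg2⟩ := (mem_stabW (CfsgLib.UnitaryEmbed.hermSesq n τ)).mp hg
    obtain ⟨A, rfl⟩ := exists_suEquiv hτ (g := g) ⟨hg1, hdet⟩
    have hA : A ∈ (Cfsg.stabilizing (Cfsg.slToMat n F) (W : Set (Fin n → F))).subgroupOf (Cfsg.SU n F q) := by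
      rw [Subgroup.mem_subgroupOf]
      intro v
      have := hg2 v
      rw [suEquiv_apply] at this
      exact this
    exact ⟨⟨A, hA⟩, rfl⟩

end StdSpace

end CfsgLib.Unitary
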